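import Cfsg.Agent.H92.ExtP
import Cfsg.Prelude.Def_Classification2
import Cfsg.Agent.NotCT.Orders

/-!
# Sporadic groups with a Sylow `p`-subgroup nonabelian of order `p³` (helper36, task 328 for S2215)
-/

set_option autoImplicit false

namespace Cfsg.Agent.H36.ExtSpor

open Cfsg Cfsg.Lie Cfsg.Agent.H92.ExtP

variable {p : ℕ} [hp : Fact p.Prime]

theorem key {G : Type*} [Group G] {n : ℕ} (hcard : Nat.card G = n) (l : List (ℕ × ℕ)) (hl : ∀ x ∈ l, x.1.Prime)
    (hn : n = (l.map fun x => x.1 ^ x.2).prod) (h : Ext p G) :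
    ∃ x ∈ l, x.1 = p ∧ x.1 ^ 3 ∣ n ∧ ¬ x.1 ^ 4 ∣ n := by
  have h1 : p ∣ (l.map fun x => x.1 ^ x.2).prod := by
    rw [← hn, ← hcard]
    exact (dvd_pow_self p (by norm_num)).trans h.dvd
  obtain ⟨y, hy, hd⟩ := (Nat.Prime.prime hp.out).dvd_prod_iff.1 h1
  obtain ⟨x, hx, rfl⟩ := List.mem_map.1 hy
  have h2 : p = x.1 := (Nat.prime_dvd_prime_iff_eq hp.out (hl x hx)).1 (hp.out.dvd_of_dvd_pow hd)
  refine ⟨x, hx, h2.symm, ?_, ?_⟩
  · rw [← h2, ← hcard]; exact h.dvd
  · rw [← h2, ← hcard]; exact h.not_dvd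

open Cfsg.Agent.SporadicB.J1.Main in
/-- the Sylow 2-subgroups of `J₁` are abelian -/
theorem not_j1 {G : Type*} [Group G] (hG : Spor.IsoJ1 G) (h : Ext 2 G) : False := by
  obtain ⟨e0⟩ := hG
  have hE : Nat.card data.E = 8 := data.card_E
  have hcard : Nat.card Cfsg.Spor.J1 = 175560 := isJ1.2
  have hfin : Finite Cfsg.Spor.J1 := Nat.finite_of_card_ne_zero (by rw [hcard]; norm_num)
  have h1 := h.congr e0
  have hsq : ∀ x ∈ data.E, x * x = 1 := by
    intro x hx
    obtain ⟨i, rfl⟩ : x ∈ Set.range data.e := hx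
    exact ((rep_e i).mul (rep_e i)).eq Rep.one (ce_sq i)
  obtain ⟨a, ha, b, hb, hab⟩ := h1.noncomm data.E (by rw [hE]; norm_num)
  apply hab
  have h2 := hsq (a * b) (mul_mem ha hb)
  have ha1 : a⁻¹ = a := inv_eq_of_mul_eq_one_right (hsq a ha)
  have hb1 : b⁻¹ = b := inv_eq_of_mul_eq_one_right (hsq b hb)
  calc a * b = (a * b)⁻¹ := (inv_eq_of_mul_eq_one_right h2).symm
    _ = b * a := by rw [mul_inv_rev, ha1, hb1]

theorem m11 {G : Type*} [Group G] (hG : Spor.IsoM11 G) (h : Ext p G) : False := by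
  obtain ⟨x, hx, h1, h2, h3⟩ := key (NotCT.Orders.m11 hG) [(2, 4), (3, 2), (5, 1), (11, 1)]
    (by simp; norm_num) (by norm_num) h
  simp only [List.mem_cons, List.not_mem_nil, or_false] at hx
  rcases hx with rfl | rfl | rfl | rfl <;>
      first | (exfalso; revert h2; norm_num; done) | (exfalso; revert h3; norm_num; done) | skip

theorem m12 {G : Type*} [Group G] (hG : Spor.IsoM12 G) (h : Ext p G) : p = 3 := by
  obtain ⟨x, hx, h1, h2, h3⟩ := key (NotCT.Orders.m12 hG) [(2, 6), (3, 3), (5, 1), (11, 1)]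
    (by simp; norm_num) (by norm_num) h
  simp only [List.mem_cons, List.not_mem_nil, or_false] at hx
  rcases hx with rfl | rfl | rfl | rfl <;>
      first | (exfalso; revert h2; norm_num; done) | (exfalso; revert h3; norm_num; done) | skip
  · exact h1.symm

theorem m22 {G : Type*} [Group G] (hG : Spor.IsoM22 G) (h : Ext p G) : False := by
  obtain ⟨x, hx, h1, h2, h3⟩ := key (NotCT.Orders.m22 hG) [(2, 7), (3, 2), (5, 1), (7, 1), (11, 1)]
    (by simp; norm_num) (by norm_num) h
  simp only [List.mem_cons, List.not_mem_nil, or_false] at hx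
  rcases hx with rfl | rfl | rfl | rfl | rfl <;>
      first | (exfalso; revert h2; norm_num; done) | (exfalso; revert h3; norm_num; done) | skip

theorem m23 {G : Type*} [Group G] (hG : Spor.IsoM23 G) (h : Ext p G) : False := by
  obtain ⟨x, hx, h1, h2, h3⟩ := key (NotCT.Orders.m23 hG) [(2, 7), (3, 2), (5, 1), (7, 1), (11, 1), (23, 1)]
    (by simp; norm_num) (by norm_num) h
  simp only [List.mem_cons, List.not_mem_nil, or_false] at hx
  rcases hx with rfl | rfl | rfl | rfl | rfl | rfl <;>
      first | (exfalso; revert h2; norm_num; done) | (exfalso; revert h3; norm_num; done) | skip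

theorem m24 {G : Type*} [Group G] (hG : Spor.IsoM24 G) (h : Ext p G) : p = 3 := by
  obtain ⟨x, hx, h1, h2, h3⟩ := key (NotCT.Orders.m24 hG) [(2, 10), (3, 3), (5, 1), (7, 1), (11, 1), (23, 1)]
    (by simp; norm_num) (by norm_num) h
  simp only [List.mem_cons, List.not_mem_nil, or_false] at hx
  rcases hx with rfl | rfl | rfl | rfl | rfl | rfl <;>
      first | (exfalso; revert h2; norm_num; done) | (exfalso; revert h3; norm_num; done) | skip
  · exact h1.symm

theorem j1 {G : Type*} [Group G] (hG : Spor.IsoJ1 G) (h : Ext p G) : False := by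
  obtain ⟨x, hx, h1, h2, h3⟩ := key (NotCT.Orders.j1 hG) [(2, 3), (3, 1), (5, 1), (7, 1), (11, 1), (19, 1)]
    (by simp; norm_num) (by norm_num) h
  simp only [List.mem_cons, List.not_mem_nil, or_false] at hx
  rcases hx with rfl | rfl | rfl | rfl | rfl | rfl <;>
      first | (exfalso; revert h2; norm_num; done) | (exfalso; revert h3; norm_num; done) | skip
  have h4 : (2 : ℕ) = p := h1
  subst h4
  exact not_j1 hG h

theorem j2 {G : Type*} [Group G] (hG : Spor.IsoJ2 G) (h : Ext p G) : p = 3 := by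
  obtain ⟨x, hx, h1, h2, h3⟩ := key (NotCT.Orders.j2 hG) [(2, 7), (3, 3), (5, 2), (7, 1)]
    (by simp; norm_num) (by norm_num) h
  simp only [List.mem_cons, List.not_mem_nil, or_false] at hx
  rcases hx with rfl | rfl | rfl | rfl <;>
      first | (exfalso; revert h2; norm_num; done) | (exfalso; revert h3; norm_num; done) | skip
  · exact h1.symm

theorem j3 {G : Type*} [Group G] (hG : Spor.IsoJ3 G) (h : Ext p G) : False := by
  obtain ⟨x, hx, h1, h2, h3⟩ := key (NotCT.Orders.j3 hG) [(2, 7), (3, 5), (5, 1), (17, 1), (19, 1)]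
    (by simp; norm_num) (by norm_num) h
  simp only [List.mem_cons, List.not_mem_nil, or_false] at hx
  rcases hx with rfl | rfl | rfl | rfl | rfl <;>
      first | (exfalso; revert h2; norm_num; done) | (exfalso; revert h3; norm_num; done) | skip

theorem j4 {G : Type*} [Group G] (hG : Spor.IsoJ4 G) (h : Ext p G) : p = 3 ∨ p = 11 := by
  obtain ⟨x, hx, h1, h2, h3⟩ := key (NotCT.Orders.j4 hG) [(2, 21), (3, 3), (5, 1), (7, 1), (11, 3), (23, 1), (29, 1), (31, 1), (37, 1), (43, 1)]
    (by simp; norm_num) (by norm_num) h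
  simp only [List.mem_cons, List.not_mem_nil, or_false] at hx
  rcases hx with rfl | rfl | rfl | rfl | rfl | rfl | rfl | rfl | rfl | rfl <;>
      first | (exfalso; revert h2; norm_num; done) | (exfalso; revert h3; norm_num; done) | skip
  · exact Or.inl h1.symm
  · exact Or.inr h1.symm

theorem co1 {G : Type*} [Group G] (hG : Spor.IsoCo1 G) (h : Ext p G) : False := by
  obtain ⟨x, hx, h1, h2, h3⟩ := key (NotCT.Orders.co1 hG) [(2, 21), (3, 9), (5, 4), (7, 2), (11, 1), (13, 1), (23, 1)]
    (by simp; norm_num) (by norm_num) h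
  simp only [List.mem_cons, List.not_mem_nil, or_false] at hx
  rcases hx with rfl | rfl | rfl | rfl | rfl | rfl | rfl <;>
      first | (exfalso; revert h2; norm_num; done) | (exfalso; revert h3; norm_num; done) | skip

theorem co2 {G : Type*} [Group G] (hG : Spor.IsoCo2 G) (h : Ext p G) : p = 5 := by
  obtain ⟨x, hx, h1, h2, h3⟩ := key (NotCT.Orders.co2 hG) [(2, 18), (3, 6), (5, 3), (7, 1), (11, 1), (23, 1)]
    (by simp; norm_num) (by norm_num) h
  simp only [List.mem_cons, List.not_mem_nil, or_false] at hx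
  rcases hx with rfl | rfl | rfl | rfl | rfl | rfl <;>
      first | (exfalso; revert h2; norm_num; done) | (exfalso; revert h3; norm_num; done) | skip
  · exact h1.symm

theorem co3 {G : Type*} [Group G] (hG : Spor.IsoCo3 G) (h : Ext p G) : p = 5 := by
  obtain ⟨x, hx, h1, h2, h3⟩ := key (NotCT.Orders.co3 hG) [(2, 10), (3, 7), (5, 3), (7, 1), (11, 1), (23, 1)]
    (by simp; norm_num) (by norm_num) h
  simp only [List.mem_cons, List.not_mem_nil, or_false] at hx
  rcases hx with rfl | rfl | rfl | rfl | rfl | rfl <;>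
      first | (exfalso; revert h2; norm_num; done) | (exfalso; revert h3; norm_num; done) | skip
  · exact h1.symm

theorem mcl {G : Type*} [Group G] (hG : Spor.IsoMcL G) (h : Ext p G) : p = 5 := by
  obtain ⟨x, hx, h1, h2, h3⟩ := key (NotCT.Orders.mcl hG) [(2, 7), (3, 6), (5, 3), (7, 1), (11, 1)]
    (by simp; norm_num) (by norm_num) h
  simp only [List.mem_cons, List.not_mem_nil, or_false] at hx
  rcases hx with rfl | rfl | rfl | rfl | rfl <;>
      first | (exfalso; revert h2; norm_num; done) | (exfalso; revert h3; norm_num; done) | skip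
  · exact h1.symm

theorem hs {G : Type*} [Group G] (hG : Spor.IsoHS G) (h : Ext p G) : p = 5 := by
  obtain ⟨x, hx, h1, h2, h3⟩ := key (NotCT.Orders.hs hG) [(2, 9), (3, 2), (5, 3), (7, 1), (11, 1)]
    (by simp; norm_num) (by norm_num) h
  simp only [List.mem_cons, List.not_mem_nil, or_false] at hx
  rcases hx with rfl | rfl | rfl | rfl | rfl <;>
      first | (exfalso; revert h2; norm_num; done) | (exfalso; revert h3; norm_num; done) | skip
  · exact h1.symm

theorem suz {G : Type*} [Group G] (hG : Spor.IsoSuz G) (h : Ext p G) : False := by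
  obtain ⟨x, hx, h1, h2, h3⟩ := key (NotCT.Orders.suz hG) [(2, 13), (3, 7), (5, 2), (7, 1), (11, 1), (13, 1)]
    (by simp; norm_num) (by norm_num) h
  simp only [List.mem_cons, List.not_mem_nil, or_false] at hx
  rcases hx with rfl | rfl | rfl | rfl | rfl | rfl <;>
      first | (exfalso; revert h2; norm_num; done) | (exfalso; revert h3; norm_num; done) | skip

theorem he {G : Type*} [Group G] (hG : Spor.IsoHe G) (h : Ext p G) : p = 3 ∨ p = 7 := by
  obtain ⟨x, hx, h1, h2, h3⟩ := key (NotCT.Orders.he hG) [(2, 10), (3, 3), (5, 2), (7, 3), (17, 1)]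
    (by simp; norm_num) (by norm_num) h
  simp only [List.mem_cons, List.not_mem_nil, or_false] at hx
  rcases hx with rfl | rfl | rfl | rfl | rfl <;>
      first | (exfalso; revert h2; norm_num; done) | (exfalso; revert h3; norm_num; done) | skip
  · exact Or.inl h1.symm
  · exact Or.inr h1.symm

theorem ru {G : Type*} [Group G] (hG : Spor.IsoRu G) (h : Ext p G) : p = 3 ∨ p = 5 := by
  obtain ⟨x, hx, h1, h2, h3⟩ := key (NotCT.Orders.ru hG) [(2, 14), (3, 3), (5, 3), (7, 1), (13, 1), (29, 1)]
    (by simp; norm_num) (by norm_num) h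
  simp only [List.mem_cons, List.not_mem_nil, or_false] at hx
  rcases hx with rfl | rfl | rfl | rfl | rfl | rfl <;>
      first | (exfalso; revert h2; norm_num; done) | (exfalso; revert h3; norm_num; done) | skip
  · exact Or.inl h1.symm
  · exact Or.inr h1.symm

theorem on {G : Type*} [Group G] (hG : Spor.IsoON G) (h : Ext p G) : p = 7 := by
  obtain ⟨x, hx, h1, h2, h3⟩ := key (NotCT.Orders.on hG) [(2, 9), (3, 4), (5, 1), (7, 3), (11, 1), (19, 1), (31, 1)]
    (by simp; norm_num) (by norm_num) h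
  simp only [List.mem_cons, List.not_mem_nil, or_false] at hx
  rcases hx with rfl | rfl | rfl | rfl | rfl | rfl | rfl <;>
      first | (exfalso; revert h2; norm_num; done) | (exfalso; revert h3; norm_num; done) | skip
  · exact h1.symm

theorem ly {G : Type*} [Group G] (hG : Spor.IsoLy G) (h : Ext p G) : False := by
  obtain ⟨x, hx, h1, h2, h3⟩ := key (NotCT.Orders.ly hG) [(2, 8), (3, 7), (5, 6), (7, 1), (11, 1), (31, 1), (37, 1), (67, 1)]
    (by simp; norm_num) (by norm_num) h
  simp only [List.mem_cons, List.not_mem_nil, or_false] at hx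
  rcases hx with rfl | rfl | rfl | rfl | rfl | rfl | rfl | rfl <;>
      first | (exfalso; revert h2; norm_num; done) | (exfalso; revert h3; norm_num; done) | skip

theorem fi22 {G : Type*} [Group G] (hG : Spor.IsoFi22 G) (h : Ext p G) : False := by
  obtain ⟨x, hx, h1, h2, h3⟩ := key (NotCT.Orders.fi22 hG) [(2, 17), (3, 9), (5, 2), (7, 1), (11, 1), (13, 1)]
    (by simp; norm_num) (by norm_num) h
  simp only [List.mem_cons, List.not_mem_nil, or_false] at hx
  rcases hx with rfl | rfl | rfl | rfl | rfl | rfl <;>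
      first | (exfalso; revert h2; norm_num; done) | (exfalso; revert h3; norm_num; done) | skip

theorem fi23 {G : Type*} [Group G] (hG : Spor.IsoFi23 G) (h : Ext p G) : False := by
  obtain ⟨x, hx, h1, h2, h3⟩ := key (NotCT.Orders.fi23 hG) [(2, 18), (3, 13), (5, 2), (7, 1), (11, 1), (13, 1), (17, 1), (23, 1)]
    (by simp; norm_num) (by norm_num) h
  simp only [List.mem_cons, List.not_mem_nil, or_false] at hx
  rcases hx with rfl | rfl | rfl | rfl | rfl | rfl | rfl | rfl <;>
      first | (exfalso; revert h2; norm_num; done) | (exfalso; revert h3; norm_num; done) | skip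

theorem fi24 {G : Type*} [Group G] (hG : Spor.IsoFi24' G) (h : Ext p G) : p = 7 := by
  obtain ⟨x, hx, h1, h2, h3⟩ := key (NotCT.Orders.fi24 hG) [(2, 21), (3, 16), (5, 2), (7, 3), (11, 1), (13, 1), (17, 1), (23, 1), (29, 1)]
    (by simp; norm_num) (by norm_num) h
  simp only [List.mem_cons, List.not_mem_nil, or_false] at hx
  rcases hx with rfl | rfl | rfl | rfl | rfl | rfl | rfl | rfl | rfl <;>
      first | (exfalso; revert h2; norm_num; done) | (exfalso; revert h3; norm_num; done) | skip
  · exact h1.symm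

theorem hn {G : Type*} [Group G] (hG : Spor.IsoHN G) (h : Ext p G) : False := by
  obtain ⟨x, hx, h1, h2, h3⟩ := key (NotCT.Orders.hn hG) [(2, 14), (3, 6), (5, 6), (7, 1), (11, 1), (19, 1)]
    (by simp; norm_num) (by norm_num) h
  simp only [List.mem_cons, List.not_mem_nil, or_false] at hx
  rcases hx with rfl | rfl | rfl | rfl | rfl | rfl <;>
      first | (exfalso; revert h2; norm_num; done) | (exfalso; revert h3; norm_num; done) | skip

theorem th {G : Type*} [Group G] (hG : Spor.IsoTh G) (h : Ext p G) : p = 5 := by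
  obtain ⟨x, hx, h1, h2, h3⟩ := key (NotCT.Orders.th hG) [(2, 15), (3, 10), (5, 3), (7, 2), (13, 1), (19, 1), (31, 1)]
    (by simp; norm_num) (by norm_num) h
  simp only [List.mem_cons, List.not_mem_nil, or_false] at hx
  rcases hx with rfl | rfl | rfl | rfl | rfl | rfl | rfl <;>
      first | (exfalso; revert h2; norm_num; done) | (exfalso; revert h3; norm_num; done) | skip
  · exact h1.symm

theorem b {G : Type*} [Group G] (hG : Spor.IsoB G) (h : Ext p G) : False := by
  obtain ⟨x, hx, h1, h2, h3⟩ := key (NotCT.Orders.b hG) [(2, 41), (3, 13), (5, 6), (7, 2), (11, 1), (13, 1), (17, 1), (19, 1), (23, 1), (31, 1), (47, 1)]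
    (by simp; norm_num) (by norm_num) h
  simp only [List.mem_cons, List.not_mem_nil, or_false] at hx
  rcases hx with rfl | rfl | rfl | rfl | rfl | rfl | rfl | rfl | rfl | rfl | rfl <;>
      first | (exfalso; revert h2; norm_num; done) | (exfalso; revert h3; norm_num; done) | skip

theorem m {G : Type*} [Group G] (hG : Spor.IsoM G) (h : Ext p G) : p = 13 := by
  obtain ⟨x, hx, h1, h2, h3⟩ := key (NotCT.Orders.m hG) [(2, 46), (3, 20), (5, 9), (7, 6), (11, 2), (13, 3), (17, 1), (19, 1), (23, 1), (29, 1), (31, 1), (41, 1), (47, 1), (59, 1), (71, 1)]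
    (by simp; norm_num) (by norm_num) h
  simp only [List.mem_cons, List.not_mem_nil, or_false] at hx
  rcases hx with rfl | rfl | rfl | rfl | rfl | rfl | rfl | rfl | rfl | rfl | rfl | rfl | rfl | rfl | rfl <;>
      first | (exfalso; revert h2; norm_num; done) | (exfalso; revert h3; norm_num; done) | skip
  · exact h1.symm

theorem tits {G : Type*} [Group G] (hG : Lie.IsoTits G) (h : Ext p G) : p = 3 := by
  obtain ⟨x, hx, h1, h2, h3⟩ := key (NotCT.Orders.tits hG) [(2, 11), (3, 3), (5, 2), (13, 1)]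
    (by simp; norm_num) (by norm_num) h
  simp only [List.mem_cons, List.not_mem_nil, or_false] at hx
  rcases hx with rfl | rfl | rfl | rfl <;>
      first | (exfalso; revert h2; norm_num; done) | (exfalso; revert h3; norm_num; done) | skip
  · exact h1.symm

theorem spor {G : Type*} [Group G] (hG : IsSporadicGroup G) (h : Ext p G) :
    (p = 3 ∧ (Spor.IsoM12 G ∨ Spor.IsoM24 G ∨ Spor.IsoJ2 G ∨ Spor.IsoJ4 G ∨ Spor.IsoHe G ∨ Spor.IsoRu G)) ∨
    (p = 5 ∧ (Spor.IsoHS G ∨ Spor.IsoCo3 G ∨ Spor.IsoCo2 G ∨ Spor.IsoMcL G ∨ Spor.IsoRu G ∨ Spor.IsoTh G)) ∨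
    (p = 7 ∧ (Spor.IsoHe G ∨ Spor.IsoON G ∨ Spor.IsoFi24' G)) ∨
    (p = 11 ∧ Spor.IsoJ4 G) ∨
    (p = 13 ∧ Spor.IsoM G) := by
  rcases hG with g | g | g | g | g | g | g | g | g | g | g | g | g | g | g | g | g | g |
      g | g | g | g | g | g | g | g
  · exact (m11 g h).elim
  · have := m12 g h; tauto
  · exact (m22 g h).elim
  · exact (m23 g h).elim
  · have := m24 g h; tauto
  · exact (j1 g h).elim
  · have := j2 g h; tauto
  · exact (j3 g h).elim
  · have := j4 g h; tauto
  · exact (co1 g h).elim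
  · have := co2 g h; tauto
  · have := co3 g h; tauto
  · have := mcl g h; tauto
  · have := hs g h; tauto
  · exact (suz g h).elim
  · have := he g h; tauto
  · have := ru g h; tauto
  · have := on g h; tauto
  · exact (ly g h).elim
  · exact (fi22 g h).elim
  · exact (fi23 g h).elim
  · have := fi24 g h; tauto
  · exact (hn g h).elim
  · have := th g h; tauto
  · exact (b g h).elim
  · have := m g h; tauto

end Cfsg.Agent.H36.ExtSpor
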