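import Mathlib
import Cfsg.Agent.Lib.Cores
import Cfsg.Agent.Classification.IdU.GenSylow

/-!
# Groups in which some nonidentity `p`-element is inverted
-/

set_option autoImplicit false
set_option linter.dupNamespace false

namespace Cfsg.Agent.H36.HasInv

open Subgroup Cfsg

/-- Some nonidentity `p`-element is inverted by some element. -/
def HasInv (p : ℕ) (G : Type*) [Group G] : Prop :=
  ∃ x g : G, x ≠ 1 ∧ (∃ k : ℕ, x ^ p ^ k = 1) ∧ g * x * g⁻¹ = x⁻¹

variable {p : ℕ} {G H : Type*} [Group G] [Group H]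

theorem HasInv.map (f : G →* H) (hf : Function.Injective f) (h : HasInv p G) : HasInv p H := by
  obtain ⟨x, g, hx, ⟨k, hk⟩, hg⟩ := h
  refine ⟨f x, f g, fun h => hx (hf (by rw [h, map_one])), ⟨k, by rw [← map_pow, hk, map_one]⟩, ?_⟩
  rw [← map_inv, ← map_inv, ← map_mul, ← map_mul, hg]

theorem HasInv.of_subgroup {K : Subgroup G} (h : HasInv p K) : HasInv p G :=
  h.map K.subtype K.subtype_injective

theorem HasInv.mono {K L : Subgroup G} (hKL : K ≤ L) (h : HasInv p K) : HasInv p L :=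
  h.map (Subgroup.inclusion hKL) (Subgroup.inclusion_injective hKL)

theorem hasInv_subgroup {K : Subgroup G} {x g : G} (hx : x ∈ K) (hg : g ∈ K) (hx1 : x ≠ 1)
    (hxp : ∃ k : ℕ, x ^ p ^ k = 1) (hinv : g * x * g⁻¹ = x⁻¹) : HasInv p K := by
  obtain ⟨k, hk⟩ := hxp
  exact ⟨⟨x, hx⟩, ⟨g, hg⟩, fun h => hx1 (congrArg Subtype.val h), ⟨k, Subtype.ext hk⟩,
    Subtype.ext hinv⟩

/-- Passing to a quotient in which `x` survives. -/
theorem HasInv.of_image (f : G →* H) {x g : G} (hx1 : f x ≠ 1) (hxp : ∃ k : ℕ, x ^ p ^ k = 1)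
    (hinv : g * x * g⁻¹ = x⁻¹) : HasInv p H := by
  obtain ⟨k, hk⟩ := hxp
  refine ⟨f x, f g, hx1, ⟨k, by rw [← map_pow, hk, map_one]⟩, ?_⟩
  rw [← map_inv, ← map_inv, ← map_mul, ← map_mul, hinv]

/-- An odd power of an element inverting `x` inverts `x`. -/
theorem pow_odd_inv {x g : G} (h : g * x * g⁻¹ = x⁻¹) (n : ℕ) (hn : Odd n) :
    g ^ n * x * (g ^ n)⁻¹ = x⁻¹ := by
  have h2 : g ^ 2 * x * (g ^ 2)⁻¹ = x := by
    have : g ^ 2 * x * (g ^ 2)⁻¹ = g * (g * x * g⁻¹) * g⁻¹ := by rw [pow_two]; group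
    rw [this, h]
    have h3 : g * x⁻¹ * g⁻¹ = (g * x * g⁻¹)⁻¹ := by group
    rw [h3, h, inv_inv]
  have h4 : ∀ m : ℕ, (g ^ 2) ^ m * x * ((g ^ 2) ^ m)⁻¹ = x := by
    intro m
    induction m with
    | zero => simp
    | succ m ih =>
      calc (g ^ 2) ^ (m + 1) * x * ((g ^ 2) ^ (m + 1))⁻¹
          = (g ^ 2) ^ m * (g ^ 2 * x * (g ^ 2)⁻¹) * ((g ^ 2) ^ m)⁻¹ := by
            rw [pow_succ]; group
        _ = x := by rw [h2, ih]
  obtain ⟨m, rfl⟩ := hn
  calc g ^ (2 * m + 1) * x * (g ^ (2 * m + 1))⁻¹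
      = g * ((g ^ 2) ^ m * x * ((g ^ 2) ^ m)⁻¹) * g⁻¹ := by
        rw [pow_succ', pow_mul]; group
    _ = x⁻¹ := by rw [h4, h]

/-- A `2`-element acting nontrivially on a `p`-group inverts a nonidentity element. -/
theorem hasInv_of_action {R : Subgroup G} (hR : IsPGroup p R) {g : G}
    (hg : g ∈ normalizer (R : Set G)) (h2 : ∃ k : ℕ, g ^ 2 ^ k = 1)
    (hc : g ∉ centralizer (R : Set G)) : HasInv p G := by
  classical
  have hex : ∃ k : ℕ, g ^ 2 ^ k ∈ centralizer (R : Set G) := by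
    obtain ⟨k, hk⟩ := h2
    exact ⟨k, by rw [hk]; exact one_mem _⟩
  obtain ⟨k, hk, hmin⟩ : ∃ k, g ^ 2 ^ k ∈ centralizer (R : Set G) ∧
      ∀ m < k, g ^ 2 ^ m ∉ centralizer (R : Set G) :=
    ⟨Nat.find hex, Nat.find_spec hex, fun m hm => Nat.find_min hex hm⟩
  have hk0 : k ≠ 0 := by
    rintro rfl
    rw [pow_zero, pow_one] at hk
    exact hc hk
  obtain ⟨m, rfl⟩ := Nat.exists_eq_succ_of_ne_zero hk0
  have hm := hmin m (Nat.lt_succ_self m)
  set h := g ^ 2 ^ m with hh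
  have hsq : h ^ 2 ∈ centralizer (R : Set G) := by
    rw [hh, ← pow_mul, ← pow_succ]
    exact hk
  have hhN : h ∈ normalizer (R : Set G) := pow_mem hg _
  have hne : ∃ c ∈ R, h * c * h⁻¹ ≠ c := by
    by_contra hcon
    push Not at hcon
    apply hm
    rw [mem_centralizer_iff]
    intro c hcR
    have := hcon c hcR
    calc c * h = (h * c * h⁻¹) * h := by rw [this]
      _ = h * c := by group
  obtain ⟨c, hcR, hcne⟩ := hne
  have hcR' : h * c * h⁻¹ ∈ R := (mem_normalizer_iff.1 hhN c).1 hcR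
  have hdR : c * (h * c * h⁻¹)⁻¹ ∈ R := R.mul_mem hcR (R.inv_mem hcR')
  refine ⟨c * (h * c * h⁻¹)⁻¹, h, ?_, ?_, ?_⟩
  · intro h0
    apply hcne
    exact (mul_inv_eq_one.1 h0).symm
  · obtain ⟨j, hj⟩ := hR ⟨_, hdR⟩
    exact ⟨j, congrArg Subtype.val hj⟩
  · have h3 : h ^ 2 * c * (h ^ 2)⁻¹ = c := by
      have := mem_centralizer_iff.1 hsq c hcR
      rw [← this, mul_inv_cancel_right]
    calc h * (c * (h * c * h⁻¹)⁻¹) * h⁻¹
        = (h * c * h⁻¹) * (h ^ 2 * c * (h ^ 2)⁻¹)⁻¹ := by group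
      _ = (c * (h * c * h⁻¹)⁻¹)⁻¹ := by rw [h3]; group

/-- An inverted `p`-element of a homomorphic image, `p` odd, gives one of the group. -/
theorem HasInv.of_surjective [Finite G] [hp : Fact p.Prime] (hp2 : p ≠ 2) (f : G →* H)
    (hf : Function.Surjective f) (h : HasInv p H) : HasInv p G := by
  classical
  obtain ⟨x, g', hx1, ⟨k, hk⟩, hinv⟩ := h
  obtain ⟨g, rfl⟩ := hf g'
  set M : Subgroup G := (zpowers x).comap f with hM
  obtain ⟨P⟩ : Nonempty (Sylow p M) := inferInstance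
  set R : Subgroup G := (P : Subgroup M).map M.subtype with hR
  have hRp : IsPGroup p R := P.isPGroup'.map _
  have hRM : R ≤ M := Subgroup.map_subtype_le _
  have hRi : ¬ p ∣ R.relIndex M := by
    rw [hR, Subgroup.relIndex, Subgroup.subgroupOf, Subgroup.comap_map_eq_self_of_injective
      M.subtype_injective]
    exact P.not_dvd_index
  -- `f(R) = ⟨x⟩`
  have hxR : x ∈ R.map f := by
    have hxp : IsPGroup p (zpowers x) := by
      rintro ⟨y, hy⟩
      obtain ⟨m, rfl⟩ := mem_zpowers_iff.1 hy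
      refine ⟨k, Subtype.ext ?_⟩
      change (x ^ m) ^ p ^ k = 1
      rw [← zpow_natCast, ← zpow_mul, mul_comm, zpow_mul, zpow_natCast, hk, one_zpow]
    -- the image of a Sylow subgroup under the surjection `M → ⟨x⟩` is Sylow
    let fM : M →* zpowers x := f.subgroupComap (zpowers x)
    have hfM : Function.Surjective fM := by
      rintro ⟨y, hy⟩
      obtain ⟨z, rfl⟩ := hf y
      exact ⟨⟨z, hy⟩, rfl⟩
    have h1 : ((P.mapSurjective hfM : Sylow p (zpowers x)) : Subgroup (zpowers x)) = ⊤ := by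
      have h2 : IsPGroup p (⊤ : Subgroup (zpowers x)) := hxp.of_equiv topEquiv.symm
      exact ((P.mapSurjective hfM).is_maximal' h2 le_top).symm
    have h4 : (⟨x, mem_zpowers x⟩ : zpowers x) ∈
        ((P.mapSurjective hfM : Sylow p (zpowers x)) : Subgroup (zpowers x)) := by
      rw [h1]; trivial
    rw [Sylow.coe_mapSurjective] at h4
    obtain ⟨y, hy, hy2⟩ := h4
    exact ⟨y, ⟨y, hy, rfl⟩, congrArg Subtype.val hy2⟩
  -- Frattini
  have hgM : ∀ y ∈ M, g * y * g⁻¹ ∈ M := by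
    intro y hy
    rw [hM, mem_comap] at hy ⊢
    obtain ⟨m, hm⟩ := mem_zpowers_iff.1 hy
    rw [map_mul, map_mul, map_inv, ← hm, ← conj_zpow, hinv]
    exact zpow_mem (inv_mem (mem_zpowers x)) m
  obtain ⟨m, hmM, hmR⟩ := Classification.IdU.GenSylow.frattini hRp hRM hRi hgM
  set n := m⁻¹ * g with hn
  have hfn : f n * x * (f n)⁻¹ = x⁻¹ := by
    have hmx : f m ∈ zpowers x := hmM
    obtain ⟨j, hj⟩ := mem_zpowers_iff.1 hmx
    rw [hn, map_mul, map_inv, ← hj]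
    calc (x ^ j)⁻¹ * f g * x * ((x ^ j)⁻¹ * f g)⁻¹ = (x ^ j)⁻¹ * (f g * x * (f g)⁻¹) * x ^ j := by
          group
      _ = x⁻¹ := by rw [hinv]; group
  have hnR : n ∈ normalizer (R : Set G) := by
    have h1 : R.map (MulAut.conj n).toMonoidHom ≤ R := by
      rintro _ ⟨y, hy, rfl⟩
      exact hmR y hy
    rw [mem_normalizer_iff_map_conj_eq]
    exact Subgroup.eq_of_le_of_card_ge h1
      (Nat.card_congr (R.equivMapOfInjective (MulAut.conj n).toMonoidHom
        (MulAut.conj n).injective).toEquiv).le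
  -- make `n` a `2`-element
  obtain ⟨e, r, hr, her⟩ := Nat.exists_eq_two_pow_mul_odd (orderOf_pos n).ne'
  have hn2 : ∃ k : ℕ, (n ^ r) ^ 2 ^ k = 1 := ⟨e, by
    rw [← pow_mul, mul_comm, ← her, pow_orderOf_eq_one]⟩
  refine hasInv_of_action hRp (pow_mem hnR r) hn2 ?_
  intro hcen
  obtain ⟨y, hy, hyx⟩ := hxR
  have h1 := pow_odd_inv hfn r hr
  have h2 := mem_centralizer_iff.1 hcen y hy
  have h3 : x * f (n ^ r) = f (n ^ r) * x := by
    rw [← hyx, ← map_mul, h2, map_mul]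
  rw [map_pow] at h3
  rw [← h3, mul_inv_cancel_right] at h1
  -- `x = x⁻¹`
  apply hx1
  have h4 : x ^ 2 = 1 := by rw [pow_two]; nth_rewrite 2 [h1]; exact mul_inv_cancel x
  have h5 : (p ^ k).Coprime 2 := by
    apply Nat.Coprime.pow_left
    rw [Nat.coprime_primes hp.out Nat.prime_two]
    exact hp2
  have h6 : orderOf x ∣ Nat.gcd (p ^ k) 2 :=
    Nat.dvd_gcd (orderOf_dvd_of_pow_eq_one hk) (orderOf_dvd_of_pow_eq_one h4)
  rw [h5] at h6
  exact orderOf_eq_one_iff.1 (Nat.dvd_one.1 h6)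

end Cfsg.Agent.H36.HasInv
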