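import Cfsg.Agent.H36.SLPair
import Cfsg.Agent.H36.HasInv
import Cfsg.Agent.PLocal.ThompsonJA
import Cfsg.Agent.PLocal.PStableQuot
import Cfsg.Agent.PLocal.StableOfNotInvolves
import Cfsg.Agent.H571.SylowNumber
import Cfsg.Agent.S0653
import Cfsg.Agent.H990.LLemma

/-!
# Inverted `p`-elements are detected in the normalizer of `Z(J(T))`

For odd `p`, if some nonidentity `p`-element of the finite group `G` is inverted in `G`, then some
nonidentity `p`-element of `N_G(Z(J(T)))` is inverted there, `T` a Sylow `p`-subgroup.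
-/

set_option autoImplicit false

namespace Cfsg.Agent.H36.RealLocal

open Subgroup Cfsg Cfsg.Agent.H36.HasInv Cfsg.Agent.PLocal.ThompsonJA
open scoped Pointwise

universe u

variable {p : ℕ}

theorem map_center_of_injOn {G H : Type*} [Group G] [Group H] (f : G →* H) (T : Subgroup G)
    (hf : Set.InjOn f T) : (centerThompsonAOf T).map f = centerThompsonAOf (T.map f) := by
  have h1 : Function.Injective (f.comp T.subtype) := fun a b h => Subtype.ext (hf a.2 b.2 h)
  have h2 := map_centerThompsonAOf T.subtype T.subtype_injective (⊤ : Subgroup T)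
  have h3 := map_centerThompsonAOf (f.comp T.subtype) h1 (⊤ : Subgroup T)
  have e1 : (⊤ : Subgroup T).map T.subtype = T := by
    rw [← MonoidHom.range_eq_map, Subgroup.range_subtype]
  rw [e1] at h2
  rw [← h2, Subgroup.map_map, h3, ← Subgroup.map_map, e1]

/-- The statement for one group. -/
def Good (p : ℕ) (G : Type u) [Group G] : Prop :=
  ∀ T : Sylow p G, HasInv p G →
    HasInv p (normalizer (centerThompsonAOf (T : Subgroup G) : Set G))

theorem sub_step {G : Type u} [Group G] {H : Subgroup G} (hH : Good p H) (P : Sylow p H)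
    (h : HasInv p H) :
    HasInv p (normalizer (centerThompsonAOf ((P : Subgroup H).map H.subtype) : Set G)) := by
  have h1 := hH P h
  set N := normalizer (centerThompsonAOf (P : Subgroup H) : Set H) with hN
  have h2 : N.map H.subtype ≤
      normalizer (centerThompsonAOf ((P : Subgroup H).map H.subtype) : Set G) := by
    rw [← map_centerThompsonAOf H.subtype H.subtype_injective]
    exact Subgroup.le_normalizer_map H.subtype
  have h3 : HasInv p (N.map H.subtype) :=
    h1.map (N.equivMapOfInjective H.subtype H.subtype_injective).toMonoidHom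
      (N.equivMapOfInjective H.subtype H.subtype_injective).injective
  exact h3.mono h2

/-- A minimal counterexample. -/
structure Ctx (p : ℕ) (G : Type u) [Group G] (T : Sylow p G) : Prop where
  ih : ∀ (H : Type u) [Group H] [Finite H], Nat.card H < Nat.card G → Good p H
  inv : HasInv p G
  not : ¬ HasInv p (normalizer (centerThompsonAOf (T : Subgroup G) : Set G))

variable {G : Type u} [Group G] [Finite G] {T : Sylow p G}

theorem card_lt_of_ne_top {H : Subgroup G} (hH : H ≠ ⊤) : Nat.card H < Nat.card G := by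
  refine lt_of_le_of_ne (Subgroup.card_le_card_group H) ?_
  intro h
  exact hH (Subgroup.eq_top_of_card_eq H h)

theorem Ctx.not_of_sub (c : Ctx p G T) {H : Subgroup G} (hT : (T : Subgroup G) ≤ H) (hH : H ≠ ⊤) :
    ¬ HasInv p H := by
  intro h
  have h1 := sub_step (c.ih H (card_lt_of_ne_top hH)) (T.subtype hT) h
  rw [Sylow.coe_subtype, Subgroup.subgroupOf_map_subtype, inf_eq_left.2 hT] at h1
  exact c.not h1

omit [Finite G] in
theorem normalizer_map_conj (g : G) (A : Subgroup G) :
    (normalizer (A : Set G)).map (MulAut.conj g).toMonoidHom =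
      normalizer ((A.map (MulAut.conj g).toMonoidHom : Subgroup G) : Set G) :=
  Subgroup.map_equiv_normalizer_eq A (MulAut.conj g)

theorem Ctx.not_conj [Fact p.Prime] (c : Ctx p G T) (T' : Sylow p G) :
    ¬ HasInv p (normalizer (centerThompsonAOf (T' : Subgroup G) : Set G)) := by
  intro h
  obtain ⟨g, hg⟩ := MulAction.exists_smul_eq G T' T
  apply c.not
  have h1 : (T : Subgroup G) = (T' : Subgroup G).map (MulAut.conj g).toMonoidHom := by
    rw [← hg]; rfl
  rw [h1, ← map_centerThompsonAOf _ (MulAut.conj g).injective, ← normalizer_map_conj]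
  exact h.map ((normalizer (centerThompsonAOf (T' : Subgroup G) : Set G)).equivMapOfInjective
    (MulAut.conj g).toMonoidHom (MulAut.conj g).injective).toMonoidHom
    ((normalizer (centerThompsonAOf (T' : Subgroup G) : Set G)).equivMapOfInjective
    (MulAut.conj g).toMonoidHom (MulAut.conj g).injective).injective

/-- The largest exponent of `p` in the order of the normalizer. -/
noncomputable def expo (p : ℕ) {G : Type*} [Group G] (Q : Subgroup G) : ℕ :=
  (Nat.card (normalizer (Q : Set G))).factorization p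

theorem Ctx.pCore_ne_bot [hp : Fact p.Prime] (c : Ctx p G T) : pCore p G ≠ ⊥ := by
  classical
  -- the family of nontrivial `p`-subgroups whose normalizer inverts something
  have hne : ({Q : Subgroup G | Q ≠ ⊥ ∧ IsPGroup p Q ∧
      HasInv p (normalizer (Q : Set G))}).Nonempty := by
    obtain ⟨x, g, hx, hxp, hinv⟩ := c.inv
    refine ⟨zpowers x, ?_, ?_, ?_⟩
    · rwa [Ne, zpowers_eq_bot]
    · obtain ⟨k, hk⟩ := hxp
      rintro ⟨y, hy⟩
      obtain ⟨m, rfl⟩ := mem_zpowers_iff.1 hy
      refine ⟨k, Subtype.ext ?_⟩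
      change (x ^ m) ^ p ^ k = 1
      rw [← zpow_natCast, ← zpow_mul, mul_comm, zpow_mul, zpow_natCast, hk, one_zpow]
    · refine hasInv_subgroup (le_normalizer (mem_zpowers x)) ?_ hx hxp hinv
      rw [mem_normalizer_iff_map_conj_eq, MonoidHom.map_zpowers]
      change zpowers (g * x * g⁻¹) = _
      rw [hinv, zpowers_inv]
  obtain ⟨Q, ⟨hQ1, hQp, hQi⟩, hmax⟩ := Set.exists_max_image _ (expo p) (Set.toFinite _) hne
  by_cases hN : normalizer (Q : Set G) = ⊤
  · have hQn : Q.Normal := normalizer_eq_top_iff.1 hN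
    intro h
    apply hQ1
    rw [eq_bot_iff, ← h]
    exact Lib.Cores.le_pCore hQn hQp
  · exfalso
    obtain ⟨P⟩ : Nonempty (Sylow p (normalizer (Q : Set G))) := inferInstance
    have h1 := sub_step (c.ih _ (card_lt_of_ne_top hN)) P hQi
    set S := (P : Subgroup (normalizer (Q : Set G))).map (normalizer (Q : Set G)).subtype with hS
    have hSp : IsPGroup p S := P.isPGroup'.map _
    have hQS : Q ≤ S := by
      have h2 : Q.subgroupOf (normalizer (Q : Set G)) ≤ (P : Subgroup _) := by
        have h3 : (Q.subgroupOf (normalizer (Q : Set G))).Normal := by infer_instance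
        have h4 : IsPGroup p (Q.subgroupOf (normalizer (Q : Set G))) :=
          hQp.of_equiv (Subgroup.subgroupOfEquivOfLe le_normalizer).symm
        exact (Lib.Cores.le_pCore h3 h4).trans (Lib.Cores.pCore_le_sylow P)
      intro q hq
      exact ⟨⟨q, le_normalizer hq⟩, h2 hq, rfl⟩
    have hS1 : S ≠ ⊥ := fun h => hQ1 (le_bot_iff.1 (h ▸ hQS))
    have hcard : Nat.card S = p ^ expo p Q := by
      rw [hS, Nat.card_congr ((P : Subgroup (normalizer (Q : Set G))).equivMapOfInjective _
        (normalizer (Q : Set G)).subtype_injective).symm.toEquiv]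
      exact P.card_eq_multiplicity
    have hmem : centerThompsonAOf S ∈ {Q : Subgroup G | Q ≠ ⊥ ∧ IsPGroup p Q ∧
        HasInv p (normalizer (Q : Set G))} :=
      ⟨centerThompsonAOf_ne_bot S hSp hS1, hSp.to_le (centerThompsonAOf_le S), h1⟩
    have hle := hmax _ hmem
    obtain ⟨T₁, hT₁⟩ := hSp.exists_le_sylow
    by_cases hST : S = (T₁ : Subgroup G)
    · rw [hST] at h1
      exact c.not_conj T₁ h1
    · -- normalizers grow
      have hnil : Group.IsNilpotent T₁ := T₁.isPGroup'.isNilpotent
      have hlt : S.subgroupOf (T₁ : Subgroup G) < ⊤ := by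
        rw [lt_top_iff_ne_top, Ne, subgroupOf_eq_top]
        intro h
        exact hST (le_antisymm hT₁ h)
      have h2 := Group.normalizerCondition_of_isNilpotent _ hlt
      obtain ⟨t, ht1, ht2⟩ := SetLike.exists_of_lt h2
      have htN : (t : G) ∈ normalizer (S : Set G) := by
        rw [mem_normalizer_iff]
        intro y
        constructor
        · intro hy
          have := (mem_normalizer_iff.1 ht1 ⟨y, hT₁ hy⟩).1 hy
          exact this
        · intro hy
          have hy' : y ∈ (T₁ : Subgroup G) := by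
            have h3 : (t : G) * y * (t : G)⁻¹ ∈ (T₁ : Subgroup G) := hT₁ hy
            have h4 : y = (t : G)⁻¹ * ((t : G) * y * (t : G)⁻¹) * (t : G) := by group
            rw [h4]
            exact mul_mem (mul_mem (inv_mem t.2) h3) t.2
          exact (mem_normalizer_iff.1 ht1 ⟨y, hy'⟩).2 hy
      have htS : (t : G) ∉ S := ht2
      set U := S ⊔ zpowers (t : G) with hU
      have hUT : U ≤ (T₁ : Subgroup G) := sup_le hT₁ (by rw [zpowers_le]; exact t.2)
      have hUp : IsPGroup p U := T₁.isPGroup'.to_le hUT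
      have hUN : U ≤ normalizer (centerThompsonAOf S : Set G) := by
        refine le_trans ?_ (normalizer_le_normalizer_centerThompsonAOf S)
        exact sup_le le_normalizer (by rw [zpowers_le]; exact htN)
      have hSU : S < U := by
        refine lt_of_le_of_ne le_sup_left ?_
        intro h
        apply htS
        rw [h]
        exact (le_sup_right : zpowers (t : G) ≤ U) (mem_zpowers _)
      obtain ⟨m, hm⟩ := IsPGroup.iff_card.1 hUp
      have h5 : Nat.card S < Nat.card U :=
        lt_of_le_of_ne (Nat.le_of_dvd Nat.card_pos (Subgroup.card_dvd_of_le hSU.le))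
          (fun h => hSU.ne (Subgroup.eq_of_le_of_card_ge hSU.le h.ge))
      rw [hm, hcard] at h5
      have h6 : expo p Q < m := (Nat.pow_lt_pow_iff_right hp.out.one_lt).1 h5
      have h7 : p ^ m ∣ Nat.card (normalizer (centerThompsonAOf S : Set G)) := by
        rw [← hm]
        exact Subgroup.card_dvd_of_le hUN
      have h8 : m ≤ expo p (centerThompsonAOf S) :=
        (hp.out.pow_dvd_iff_le_factorization Nat.card_pos.ne').1 h7
      omega

/-- `O_{p'}(G) = 1`. -/
theorem Ctx.pPrimeCore_eq_bot [hp : Fact p.Prime] (hp2 : p ≠ 2) (c : Ctx p G T) :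
    pPrimeCore p G = ⊥ := by
  classical
  by_contra hne
  set N := pPrimeCore p G with hN
  have hNn : N.Normal := Lib.Cores.pPrimeCore_normal p
  have hcop : (Nat.card N).Coprime p := Lib.Cores.pPrimeCore_coprime p
  let f : G →* G ⧸ N := QuotientGroup.mk' N
  have hf : Function.Surjective f := QuotientGroup.mk'_surjective N
  have hker : f.ker = N := QuotientGroup.ker_mk' N
  have hlt : Nat.card (G ⧸ N) < Nat.card G := by
    rw [Subgroup.card_eq_card_quotient_mul_card_subgroup N]
    exact lt_mul_of_one_lt_right Nat.card_pos ((Subgroup.one_lt_card_iff_ne_bot N).2 hne)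
  have hinj : Set.InjOn f (T : Subgroup G) := by
    intro x hx y hy hxy
    have h1 : x⁻¹ * y ∈ N := by
      rw [← hker, MonoidHom.mem_ker, map_mul, map_inv, hxy, inv_mul_cancel]
    have h2 : x⁻¹ * y ∈ (T : Subgroup G) := mul_mem (inv_mem hx) hy
    obtain ⟨k, hk⟩ := T.isPGroup' ⟨_, h2⟩
    have h3 : (x⁻¹ * y) ^ p ^ k = 1 := congrArg Subtype.val hk
    have h4 : orderOf (x⁻¹ * y) ∣ Nat.gcd (Nat.card N) (p ^ k) :=
      Nat.dvd_gcd (Subgroup.orderOf_dvd_natCard N h1) (orderOf_dvd_of_pow_eq_one h3)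
    rw [Nat.Coprime.pow_right k hcop, Nat.dvd_one, orderOf_eq_one_iff] at h4
    exact (inv_mul_eq_one.1 h4)
  have h1 : HasInv p (G ⧸ N) := by
    obtain ⟨x, g, hx, ⟨k, hk⟩, hinv⟩ := c.inv
    refine HasInv.of_image f (x := x) (g := g) ?_ ⟨k, hk⟩ hinv
    intro h
    have h1 : x ∈ N := by rw [← hker]; exact h
    apply hx
    have h4 : orderOf x ∣ Nat.gcd (Nat.card N) (p ^ k) :=
      Nat.dvd_gcd (Subgroup.orderOf_dvd_natCard N h1) (orderOf_dvd_of_pow_eq_one hk)
    rwa [Nat.Coprime.pow_right k hcop, Nat.dvd_one, orderOf_eq_one_iff] at h4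
  have h2 := c.ih _ hlt (T.mapSurjective hf) h1
  rw [Sylow.coe_mapSurjective, ← map_center_of_injOn f T hinj,
    ← PLocal.PStableQuot.map_normalizer f hf (by rw [hker]; exact hcop) _
      (T.isPGroup'.to_le (centerThompsonAOf_le _))] at h2
  apply c.not
  exact h2.of_surjective hp2
    (f.subgroupMap (normalizer (centerThompsonAOf (T : Subgroup G) : Set G)))
    (f.subgroupMap_surjective _)

omit [Finite G] in
/-- `T` is not normal. -/
theorem Ctx.not_le_pCore (c : Ctx p G T) : ¬ (T : Subgroup G) ≤ pCore p G := by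
  intro h
  apply c.not
  have h1 : (T : Subgroup G) = pCore p G := le_antisymm h (Lib.Cores.pCore_le_sylow T)
  have h2 : (T : Subgroup G).Normal := by rw [h1]; exact Lib.Cores.pCore_normal p
  have h3 : normalizer (centerThompsonAOf (T : Subgroup G) : Set G) = ⊤ := by
    rw [eq_top_iff, ← normalizer_eq_top_iff.2 h2]
    exact normalizer_le_normalizer_centerThompsonAOf _
  rw [h3]
  exact c.inv.map (topEquiv (G := G)).symm.toMonoidHom (topEquiv (G := G)).symm.injective

/-- `G / O_p(G)` inverts no `p`-element. -/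
theorem Ctx.quotient [hp : Fact p.Prime] (hp2 : p ≠ 2) (c : Ctx p G T) :
    ¬ HasInv p (G ⧸ pCore p G) := by
  classical
  intro h1
  have hNn : (pCore p G).Normal := Lib.Cores.pCore_normal p
  let f : G →* G ⧸ pCore p G := QuotientGroup.mk' (pCore p G)
  have hf : Function.Surjective f := QuotientGroup.mk'_surjective _
  have hker : f.ker = pCore p G := QuotientGroup.ker_mk' _
  have hlt : Nat.card (G ⧸ pCore p G) < Nat.card G := by
    rw [Subgroup.card_eq_card_quotient_mul_card_subgroup (pCore p G)]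
    exact lt_mul_of_one_lt_right Nat.card_pos
      ((Subgroup.one_lt_card_iff_ne_bot _).2 c.pCore_ne_bot)
  have h2 := c.ih _ hlt (T.mapSurjective hf) h1
  set W := centerThompsonAOf ((T.mapSurjective hf : Sylow p (G ⧸ pCore p G)) :
    Subgroup (G ⧸ pCore p G)) with hW
  have hTX : (T : Subgroup G) ≤ (normalizer (W : Set (G ⧸ pCore p G))).comap f := by
    rw [← Subgroup.map_le_iff_le_comap, ← Sylow.coe_mapSurjective (hf := hf)]
    exact (le_normalizer).trans (normalizer_le_normalizer_centerThompsonAOf _)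
  have hX : (normalizer (W : Set (G ⧸ pCore p G))).comap f ≠ ⊤ := by
    intro htop
    have h3 : normalizer (W : Set (G ⧸ pCore p G)) = ⊤ := by
      rw [eq_top_iff]
      intro y _
      obtain ⟨x, rfl⟩ := hf y
      have : x ∈ (normalizer (W : Set (G ⧸ pCore p G))).comap f := by rw [htop]; trivial
      exact this
    have h4 : W.Normal := normalizer_eq_top_iff.1 h3
    have hWp : IsPGroup p W := (Sylow.isPGroup' _).to_le (centerThompsonAOf_le _)
    have h5 : W ≤ pCore p (G ⧸ pCore p G) := Lib.Cores.le_pCore h4 hWp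
    rw [Lib.Cores.pCore_quotient_pCore, le_bot_iff] at h5
    have h6 : ((T.mapSurjective hf : Sylow p (G ⧸ pCore p G)) : Subgroup (G ⧸ pCore p G)) = ⊥ := by
      by_contra h7
      exact centerThompsonAOf_ne_bot _ (Sylow.isPGroup' _) h7 h5
    rw [Sylow.coe_mapSurjective, Subgroup.map_eq_bot_iff, hker] at h6
    exact c.not_le_pCore h6
  apply c.not_of_sub hTX hX
  exact h2.of_surjective hp2 (f.subgroupComap _) (by
    rintro ⟨y, hy⟩
    obtain ⟨x, rfl⟩ := hf y
    exact ⟨⟨x, hy⟩, rfl⟩)

/-- `C_G(O_p(G)) ≤ O_p(G)`. -/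
theorem Ctx.centralizer_le [hp : Fact p.Prime] (hp2 : p ≠ 2) (c : Ctx p G T) :
    centralizer (pCore p G : Set G) ≤ pCore p G := by
  classical
  have hQn : (pCore p G).Normal := Lib.Cores.pCore_normal p
  have hQp : IsPGroup p (pCore p G) := Lib.Cores.pCore_isPGroup p
  set C := centralizer (pCore p G : Set G) with hC
  have hCn : C.Normal := by rw [hC]; infer_instance
  set K := C ⊔ pCore p G with hK
  have hKn : K.Normal := by rw [hK]; infer_instance
  have hfr := H571.SylowNumber.normalizer_inf_sup_eq_top T K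
  set S := (T : Subgroup G) ⊓ K with hS
  have hQS : pCore p G ≤ S := le_inf (Lib.Cores.pCore_le_sylow T) le_sup_right
  have hTN : (T : Subgroup G) ≤ normalizer (S : Set G) := by
    intro t ht
    rw [mem_normalizer_iff]
    intro y
    rw [hS, mem_inf, mem_inf]
    constructor
    · rintro ⟨h1, h2⟩
      exact ⟨mul_mem (mul_mem ht h1) (inv_mem ht), hKn.conj_mem y h2 t⟩
    · rintro ⟨h1, h2⟩
      have e : y = t⁻¹ * (t * y * t⁻¹) * t := by group
      constructor
      · rw [e]; exact mul_mem (mul_mem (inv_mem ht) h1) ht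
      · rw [e]
        have := hKn.conj_mem _ h2 t⁻¹
        rwa [inv_inv] at this
  have hNtop : normalizer (S : Set G) = ⊤ := by
    by_contra hne
    apply c.not_of_sub hTN hne
    obtain ⟨x, g, hx, ⟨k, hk⟩, hinv⟩ := c.inv
    have hxQ : x ∈ pCore p G := by
      by_contra hxQ
      apply c.quotient hp2
      refine HasInv.of_image (QuotientGroup.mk' (pCore p G)) (x := x) (g := g) ?_ ⟨k, hk⟩ hinv
      intro h
      exact hxQ ((QuotientGroup.eq_one_iff x).1 h)
    -- `g = c n`
    have h1 : C ⊔ normalizer (S : Set G) = ⊤ := by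
      rw [eq_top_iff, ← hfr, hK]
      refine sup_le le_sup_right (sup_le le_sup_left ?_)
      exact hQS.trans (le_normalizer.trans le_sup_right)
    have h2 : g ∈ C ⊔ normalizer (S : Set G) := by rw [h1]; trivial
    obtain ⟨d, hd, n, hn, rfl⟩ := Subgroup.mem_sup_of_normal_left.1 h2
    have hnx : n * x * n⁻¹ = x⁻¹ := by
      have h3 : x⁻¹ = d⁻¹ * x⁻¹ * d := by
        have := mem_centralizer_iff.1 hd x⁻¹ (inv_mem hxQ)
        rw [mul_assoc, this, inv_mul_cancel_left]
      rw [h3, ← hinv]
      group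
    exact hasInv_subgroup (le_normalizer (hQS hxQ)) hn hx ⟨k, hk⟩ hnx
  have hSn : S.Normal := normalizer_eq_top_iff.1 hNtop
  have hSQ : S ≤ pCore p G := Lib.Cores.le_pCore hSn (T.isPGroup'.to_le inf_le_left)
  -- the Sylow `p`-subgroup of `C` is central
  obtain ⟨P⟩ : Nonempty (Sylow p C) := inferInstance
  have hPQ : (P : Subgroup C).map C.subtype ≤ pCore p G := by
    obtain ⟨T', hT'⟩ := (P.isPGroup'.map C.subtype).exists_le_sylow
    obtain ⟨g, hg⟩ := MulAction.exists_smul_eq G T T'
    intro x hx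
    have h1 : g⁻¹ * x * g ∈ (T : Subgroup G) := by
      have h2 := hT' hx
      rw [← hg, Sylow.coe_subgroup_smul, Subgroup.mem_pointwise_smul_iff_inv_smul_mem] at h2
      have h5 : (MulAut.conj g)⁻¹ • x = g⁻¹ * x * g := by
        rw [← map_inv, MulAut.smul_def, MulAut.conj_apply, inv_inv]
      rwa [h5] at h2
    have h2 : g⁻¹ * x * g ∈ K := by
      have h3 : x ∈ C := by
        obtain ⟨y, _, rfl⟩ := hx
        exact y.2
      have := hCn.conj_mem x h3 g⁻¹
      rw [inv_inv] at this
      exact (le_sup_left : C ≤ K) this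
    have h3 := hQn.conj_mem _ (hSQ ⟨h1, h2⟩) g
    have e : g * (g⁻¹ * x * g) * g⁻¹ = x := by group
    rwa [e] at h3
  have hPc : ∀ y ∈ (P : Subgroup C), ∀ z : C, y * z = z * y := by
    intro y hy z
    apply Subtype.ext
    exact mem_centralizer_iff.1 z.2 y (hPQ ⟨y, hy, rfl⟩)
  have hNC : normalizer ((P : Subgroup C) : Set C) ≤ centralizer ((P : Subgroup C) : Set C) := by
    intro z _
    rw [mem_centralizer_iff]
    intro y hy
    exact hPc y hy z
  have hcompl := MonoidHom.ker_transferSylow_isComplement' P hNC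
  have hnd := MonoidHom.not_dvd_card_ker_transferSylow P hNC
  have hkn : (MonoidHom.transferSylow P hNC).ker.Normal := by infer_instance
  have hkle : (MonoidHom.transferSylow P hNC).ker ≤ pPrimeCore p C := by
    apply Lib.Cores.le_pPrimeCore hkn
    exact ((Nat.Prime.coprime_iff_not_dvd hp.out).2 hnd).symm
  have hpp : pPrimeCore p C = ⊥ := by
    have h1 := Lib.Cores.map_subtype_pPrimeCore p hCn
    rw [c.pPrimeCore_eq_bot hp2, inf_bot_eq] at h1
    exact (Subgroup.map_eq_bot_iff_of_injective _ C.subtype_injective).1 h1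
  rw [hpp, le_bot_iff] at hkle
  rw [hkle] at hcompl
  have hPtop : (P : Subgroup C) = ⊤ := by
    rw [Subgroup.isComplement'_bot_left] at hcompl
    exact hcompl
  intro x hx
  apply hPQ
  exact ⟨⟨x, hx⟩, by rw [hPtop]; trivial, rfl⟩

/-- Proper overgroups of `T` have odd order. -/
theorem Ctx.odd [hp : Fact p.Prime] (hp2 : p ≠ 2) (c : Ctx p G T) {H : Subgroup G}
    (hT : (T : Subgroup G) ≤ H) (hH : H ≠ ⊤) : ¬ 2 ∣ Nat.card H := by
  classical
  intro h2
  have hfact : Fact (Nat.Prime 2) := ⟨Nat.prime_two⟩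
  obtain ⟨t, ht⟩ := exists_prime_orderOf_dvd_card' (G := H) 2 h2
  apply c.not_of_sub hT hH
  have hQn : (pCore p G).Normal := Lib.Cores.pCore_normal p
  have hQp : IsPGroup p (pCore p G) := Lib.Cores.pCore_isPGroup p
  have hQH : pCore p G ≤ H := (Lib.Cores.pCore_le_sylow T).trans hT
  have hn : ((pCore p G).subgroupOf H).Normal := by infer_instance
  refine hasInv_of_action (R := (pCore p G).subgroupOf H) (g := t) ?_ ?_ ?_ ?_
  · exact hQp.of_equiv (Subgroup.subgroupOfEquivOfLe hQH).symm
  · rw [normalizer_eq_top_iff.2 hn]; trivial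
  · exact ⟨1, by rw [pow_one, ← ht, pow_orderOf_eq_one]⟩
  · intro hc
    have h1 : (t : G) ∈ centralizer (pCore p G : Set G) := by
      rw [mem_centralizer_iff]
      intro y hy
      exact congrArg Subtype.val (mem_centralizer_iff.1 hc ⟨y, hQH hy⟩ hy)
    have h2 := c.centralizer_le hp2 h1
    obtain ⟨k, hk⟩ := hQp ⟨_, h2⟩
    have h3 : (t : G) ^ p ^ k = 1 := congrArg Subtype.val hk
    have h4 : orderOf (t : G) = 2 := by rw [Subgroup.orderOf_coe, ht]
    have h5 : 2 ∣ p ^ k := by rw [← h4]; exact orderOf_dvd_of_pow_eq_one h3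
    have h6 := Nat.prime_two.dvd_of_dvd_pow h5
    exact hp2 ((Nat.prime_dvd_prime_iff_eq Nat.prime_two hp.out).1 h6).symm

/-- A group of odd order involves no `SL₂(p)`. -/
theorem not_inv_of_odd [hp : Fact p.Prime] (hp2 : p ≠ 2) {H : Type*} [Group H] [Finite H]
    (h : ¬ 2 ∣ Nat.card H) :
    ¬ PLocal.StableOfNotInvolves.Inv H (Matrix.SpecialLinearGroup (Fin 2) (ZMod p)) := by
  rintro ⟨K, f, hf⟩
  apply h
  have h1 : Nat.card (Matrix.SpecialLinearGroup (Fin 2) (ZMod p)) ∣ Nat.card K :=
    Subgroup.card_dvd_of_surjective f hf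
  have hneg : (-1 : Matrix.SpecialLinearGroup (Fin 2) (ZMod p)) ≠ 1 := by
    intro h
    have h1 := congrArg (fun g : Matrix.SpecialLinearGroup (Fin 2) (ZMod p) => g.1 0 0) h
    simp at h1
    have h4 : ((2 : ℕ) : ZMod p) = 0 := by
      push_cast
      linear_combination -h1
    rw [CharP.cast_eq_zero_iff (ZMod p) p] at h4
    exact hp2 ((Nat.prime_dvd_prime_iff_eq Fact.out Nat.prime_two).1 h4)
  have hneg2 : (-1 : Matrix.SpecialLinearGroup (Fin 2) (ZMod p)) ^ 2 = 1 := by simp
  have h3 : orderOf (-1 : Matrix.SpecialLinearGroup (Fin 2) (ZMod p)) = 2 :=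
    orderOf_eq_prime hneg2 hneg
  have h4 := orderOf_dvd_natCard (-1 : Matrix.SpecialLinearGroup (Fin 2) (ZMod p))
  rw [h3] at h4
  exact h4.trans (h1.trans (Subgroup.card_subgroup_dvd_card K))

/-- Proper overgroups of `T` normalize `Z(J(T))`. -/
theorem Ctx.le_norm [hp : Fact p.Prime] (hp2 : p ≠ 2) (c : Ctx p G T) {H : Subgroup G}
    (hT : (T : Subgroup G) ≤ H) (hH : H ≠ ⊤) :
    H ≤ normalizer (centerThompsonAOf (T : Subgroup G) : Set G) := by
  classical
  have hodd := c.odd hp2 hT hH
  have hQn : (pCore p G).Normal := Lib.Cores.pCore_normal p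
  have hQp : IsPGroup p (pCore p G) := Lib.Cores.pCore_isPGroup p
  have hQH : pCore p G ≤ H := (Lib.Cores.pCore_le_sylow T).trans hT
  have hn : ((pCore p G).subgroupOf H).Normal := by infer_instance
  have hle : (pCore p G).subgroupOf H ≤ pCore p H :=
    Lib.Cores.le_pCore hn (hQp.of_equiv (Subgroup.subgroupOfEquivOfLe hQH).symm)
  have hc : centralizer (pCore p H : Set H) ≤ pCore p H := by
    refine le_trans ?_ hle
    intro x hx
    have h1 : (x : G) ∈ centralizer (pCore p G : Set G) := by
      rw [mem_centralizer_iff]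
      intro y hy
      exact congrArg Subtype.val (mem_centralizer_iff.1 hx ⟨y, hQH hy⟩ (hle hy))
    exact c.centralizer_le hp2 h1
  have h1 := S0653.result hp2 hc
    (fun P _ hP => PLocal.StableOfNotInvolves.isPStableOn_of_not_involves hp2
      (not_inv_of_odd hp2 hodd) P hP) (T.subtype hT)
  have h2 : (centerThompsonAOf ((T.subtype hT : Sylow p H) : Subgroup H)).Normal := by
    infer_instance
  have h3 : (centerThompsonAOf ((T.subtype hT : Sylow p H) : Subgroup H)).map H.subtype =
      centerThompsonAOf (T : Subgroup G) := by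
    rw [map_centerThompsonAOf H.subtype H.subtype_injective, Sylow.coe_subtype,
      Subgroup.subgroupOf_map_subtype, inf_eq_left.2 hT]
  rw [← h3]
  have h4 := Subgroup.le_normalizer_map (H := centerThompsonAOf ((T.subtype hT : Sylow p H) :
    Subgroup H)) H.subtype
  rw [normalizer_eq_top_iff.2 h2] at h4
  refine le_trans ?_ h4
  rw [← MonoidHom.range_eq_map, Subgroup.range_subtype]

open scoped commutatorElement in
/-- There is no minimal counterexample. -/
theorem Ctx.false [hp : Fact p.Prime] (hp2 : p ≠ 2) (c : Ctx p G T) : False := by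
  classical
  set M := normalizer (centerThompsonAOf (T : Subgroup G) : Set G) with hM
  have hTM : (T : Subgroup G) ≤ M :=
    le_normalizer.trans (normalizer_le_normalizer_centerThompsonAOf _)
  have hMtop : M ≠ ⊤ := by
    intro h
    apply c.not
    rw [← hM, h]
    exact c.inv.map (topEquiv (G := G)).symm.toMonoidHom (topEquiv (G := G)).symm.injective
  -- a normal `p`-subgroup on which `G` is not `p`-stable
  obtain ⟨B, hBn, hBp, hB⟩ : ∃ (B : Subgroup G) (_ : B.Normal), IsPGroup p B ∧
      ¬ IsPStableOn p B := by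
    by_contra hcon
    push Not at hcon
    have h1 := S0653.result hp2 (c.centralizer_le hp2) (fun P hPn hP => hcon P hPn hP) T
    have h2 : (centerThompsonAOf (T : Subgroup G)).Normal := by infer_instance
    exact hMtop (normalizer_eq_top_iff.2 h2)
  unfold IsPStableOn at hB
  push Not at hB
  obtain ⟨a, hquad, hna⟩ := hB
  set C := centralizer (B : Set G) with hC
  have hCn : C.Normal := by rw [hC]; infer_instance
  let f : G →* G ⧸ C := QuotientGroup.mk' C
  have hf : Function.Surjective f := QuotientGroup.mk'_surjective C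
  have hker : f.ker = C := QuotientGroup.ker_mk' C
  have hfa : f a ∉ pCore p (G ⧸ C) := hna
  have hCM : C ≤ M := by
    by_cases h : C ⊔ (T : Subgroup G) = ⊤
    · exfalso
      apply hfa
      have h1 : IsPGroup p (G ⧸ C) := by
        have h2 : (T : Subgroup G).map f = ⊤ := by
          have h3 : (C ⊔ (T : Subgroup G)).map f = ⊤ := by
            rw [h, ← MonoidHom.range_eq_map, MonoidHom.range_eq_top.2 hf]
          rw [Subgroup.map_sup, (Subgroup.map_eq_bot_iff C).2 hker.ge, bot_sup_eq] at h3
          exact h3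
        have h4 := T.isPGroup'.map f
        rw [h2] at h4
        exact h4.of_equiv topEquiv
      rw [(Lib.Cores.pCore_eq_top_iff p).2 h1]
      trivial
    · exact le_sup_left.trans (c.le_norm hp2 le_sup_right h)
  have hcomap : (M.map f).comap f = M := by
    rw [Subgroup.comap_map_eq, hker, sup_eq_left.2 hCM]
  have hNtop : M.map f ≠ ⊤ := by
    intro h
    rw [h, Subgroup.comap_top] at hcomap
    exact hMtop hcomap.symm
  have hodd : ¬ 2 ∣ Nat.card (M.map f) := by
    intro h
    exact c.odd hp2 hTM hMtop (h.trans (Subgroup.card_dvd_of_surjective (f.subgroupMap M)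
      (f.subgroupMap_surjective M)))
  -- the element `a` has `p`-power order modulo `C`
  have hcomm : ∀ b ∈ B, ⁅b, a⁆ ∈ B ∧ Commute ⁅b, a⁆ a := by
    intro b hb
    refine ⟨?_, ?_⟩
    · rw [commutatorElement_def]
      have := hBn.conj_mem _ (inv_mem hb) a
      have e : b * a * b⁻¹ * a⁻¹ = b * (a * b⁻¹ * a⁻¹) := by group
      rw [e]
      exact mul_mem hb this
    · have h1 : ⁅⁅b, a⁆, a⁆ ∈ ⁅⁅B, Subgroup.zpowers a⁆, Subgroup.zpowers a⁆ :=
        Subgroup.commutator_mem_commutator
          (Subgroup.commutator_mem_commutator hb (mem_zpowers a)) (mem_zpowers a)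
      rw [hquad, mem_bot, commutatorElement_eq_one_iff_mul_comm] at h1
      exact h1
  obtain ⟨k, hk⟩ := PLocal.StableOfNotInvolves.exists_pow_mem_centralizer_of_commute hBp hcomm
  have hfak : (f a) ^ p ^ k = 1 := by
    rw [← map_pow, ← MonoidHom.mem_ker, hker]
    exact hk
  have hAp : IsPGroup p (zpowers (f a)) := by
    rintro ⟨y, hy⟩
    obtain ⟨m, rfl⟩ := mem_zpowers_iff.1 hy
    refine ⟨k, Subtype.ext ?_⟩
    change ((f a) ^ m) ^ p ^ k = 1
    rw [← zpow_natCast, ← zpow_mul, mul_comm, zpow_mul, zpow_natCast, hfak, one_zpow]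
  obtain ⟨y, L, L₀, hL₀, hAL, hRL, hne, hmax, hti⟩ :=
    H990.LLem.exists_lifted (T.mapSurjective hf) (M.map f)
      (by rw [Sylow.coe_mapSurjective]; exact Subgroup.map_mono hTM) hNtop
      (by
        intro K hK hKtop
        rw [Sylow.coe_mapSurjective, Subgroup.map_le_iff_le_comap] at hK
        have h1 : K.comap f ≠ ⊤ := by
          intro h
          apply hKtop
          rw [eq_top_iff]
          intro z _
          obtain ⟨w, rfl⟩ := hf z
          have : w ∈ K.comap f := by rw [h]; trivial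
          exact this
        have h2 := c.le_norm hp2 hK h1
        rw [← Subgroup.map_comap_eq_self_of_surjective hf K]
        exact Subgroup.map_mono h2)
      hAp (by rw [zpowers_le]; exact hfa)
  have hL₀L : L₀ ≤ L := by rw [hL₀]; exact inf_le_left
  obtain ⟨x, hxL, hxL₀⟩ := SetLike.exists_of_lt (lt_of_le_of_ne hL₀L hne)
  set R := pCore p (G ⧸ C) with hR
  have hRn : R.Normal := Lib.Cores.pCore_normal p
  have hRp : IsPGroup p R := Lib.Cores.pCore_isPGroup p
  set a' := f a with ha'
  set b' := x * a' * x⁻¹ with hb'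
  have ha'L₀ : a' ∈ L₀ := hAL (mem_zpowers a')
  have ha'L : a' ∈ L := hL₀L ha'L₀
  have hb'L : b' ∈ L := mul_mem (mul_mem hxL ha'L) (inv_mem hxL)
  set K := closure ({a', b'} : Set (G ⧸ C)) with hK
  have ha'K : a' ∈ K := subset_closure (by simp)
  have hb'K : b' ∈ K := subset_closure (by simp)
  have hKL : K ≤ L := by
    rw [hK, closure_le]
    rintro z (rfl | rfl)
    · exact ha'L
    · exact hb'L
  have hKR : K ⊔ R = L := by
    by_contra h
    have h1 := hmax (K ⊔ R) (by rw [zpowers_le]; exact (le_sup_left : K ≤ K ⊔ R) ha'K)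
      le_sup_right (sup_le hKL (hRL.trans hL₀L)) h
    have h2 : b' ∈ L₀ := h1 ((le_sup_left : K ≤ K ⊔ R) hb'K)
    have h3 : x⁻¹ ∈ L₀ := by
      apply hti _ (inv_mem hxL)
      rw [zpowers_le, H990.Norm.mem_cj, inv_inv]
      exact h2
    exact hxL₀ (by rw [← inv_inv x]; exact inv_mem h3)
  -- the action on `B`
  let φ : G →* MulAut B := MulAut.conjNormal
  have hφ : ∀ (g : G) (v : B), ((φ g v : B) : G) = g * v * g⁻¹ := fun g v =>
    MulAut.conjNormal_apply g v
  have hφC : ∀ g, φ g = 1 ↔ g ∈ C := by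
    intro g
    rw [hC, mem_centralizer_iff]
    constructor
    · intro h v hv
      have h1 := hφ g ⟨v, hv⟩
      rw [h] at h1
      have h2 : v = g * v * g⁻¹ := h1
      calc v * g = (g * v * g⁻¹) * g := by rw [← h2]
        _ = g * v := by group
    · intro h
      ext v
      rw [hφ]
      have := h v v.2
      change g * v * g⁻¹ = v
      rw [← this, mul_inv_cancel_right]
  let ψ : G ⧸ C →* MulAut B := QuotientGroup.lift C φ (fun g hg => (hφC g).2 hg)
  have hψ : ∀ g : G, ψ (f g) = φ g := fun g => rfl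
  have hψi : ∀ z, ψ z = 1 → z = 1 := by
    intro z hz
    obtain ⟨g, rfl⟩ := hf z
    rw [hψ, hφC] at hz
    exact (QuotientGroup.eq_one_iff g).2 hz
  have hqa : ∀ v : B, ψ a' (v⁻¹ * ψ a' v) = v⁻¹ * ψ a' v := by
    intro v
    rw [ha', hψ]
    apply Subtype.ext
    have h1 := (hcomm _ (inv_mem v.2)).2
    rw [hφ]
    have e : (((v⁻¹ * φ a v : B) : G)) = ⁅(v : G)⁻¹, a⁆ := by
      rw [Subgroup.coe_mul, Subgroup.coe_inv, hφ, commutatorElement_def, inv_inv]
      group
    rw [e, ← h1.eq, mul_inv_cancel_right]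
  have hqb : ∀ v : B, ψ b' (v⁻¹ * ψ b' v) = v⁻¹ * ψ b' v := by
    intro v
    obtain ⟨w, rfl⟩ := (ψ x).surjective v
    have e1 : ψ b' (ψ x w) = ψ x (ψ a' w) := by
      rw [← MulAut.mul_apply, ← MulAut.mul_apply, ← map_mul, ← map_mul, hb',
        inv_mul_cancel_right]
    have e2 : ∀ w' : B, ψ b' (ψ x w') = ψ x (ψ a' w') := by
      intro w'
      rw [← MulAut.mul_apply, ← MulAut.mul_apply, ← map_mul, ← map_mul, hb',
        inv_mul_cancel_right]
    rw [e1, ← map_inv, ← map_mul, e2, hqa]
  let α : K →* MulAut B := ψ.comp K.subtype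
  have hab : closure ({⟨a', ha'K⟩, ⟨b', hb'K⟩} : Set K) = ⊤ := by
    apply Subgroup.map_injective K.subtype_injective
    rw [MonoidHom.map_closure, Set.image_pair, ← MonoidHom.range_eq_map, Subgroup.range_subtype]
    exact hK.symm
  have hnp : ¬ ∀ k : K, ∃ n, (α k) ^ p ^ n = 1 := by
    intro hall
    have hKp : IsPGroup p K := by
      intro k
      obtain ⟨n, hn⟩ := hall k
      refine ⟨n, Subtype.ext ?_⟩
      apply hψi
      have : α (k ^ p ^ n) = 1 := by rw [map_pow, hn]
      exact this
    have hLp : IsPGroup p L := by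
      rw [← hKR]
      exact hKp.to_sup_of_normal_right hRp
    have hnil : Group.IsNilpotent L := hLp.isNilpotent
    have hlt : L₀.subgroupOf L < ⊤ := by
      rw [lt_top_iff_ne_top, Ne, subgroupOf_eq_top]
      intro h
      exact hne (le_antisymm hL₀L h)
    obtain ⟨l, hl1, hl2⟩ := SetLike.exists_of_lt (Group.normalizerCondition_of_isNilpotent _ hlt)
    apply hl2
    change (l : G ⧸ C) ∈ L₀
    apply hti _ l.2
    refine hAL.trans ?_
    intro z hz
    rw [H990.Norm.mem_cj]
    have h1 := (mem_normalizer_iff.1 (inv_mem hl1) ⟨z, hL₀L hz⟩).1 hz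
    have h2 : ((l⁻¹ * ⟨z, hL₀L hz⟩ * (l⁻¹)⁻¹ : L) : G ⧸ C) ∈ L₀ := h1
    have e : ((l⁻¹ * ⟨z, hL₀L hz⟩ * (l⁻¹)⁻¹ : L) : G ⧸ C) =
        (l : G ⧸ C)⁻¹ * z * (l : G ⧸ C) := by
      rw [inv_inv]; rfl
    rwa [e] at h2
  have hSL := SLPair.exists_sl_map hBp α ⟨a', ha'K⟩ ⟨b', hb'K⟩ hab hqa hqb hnp
  obtain ⟨X, haX, hXtop, hX2, hXR⟩ := SLPair.exists_even_proper hp2 hab hSL
  have hXRK : R.subgroupOf K ≤ X := by
    apply hXR
    · infer_instance
    · exact hRp.comap_of_injective K.subtype K.subtype_injective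
  have hne' : X.map K.subtype ⊔ R ≠ L := by
    intro h
    apply hXtop
    rw [eq_top_iff]
    intro k _
    have h1 : (k : G ⧸ C) ∈ X.map K.subtype ⊔ R := by rw [h]; exact hKL k.2
    obtain ⟨z, ⟨z', hz', rfl⟩, r, hr, hzr⟩ := Subgroup.mem_sup_of_normal_right.1 h1
    have h2 : z'⁻¹ * k ∈ R.subgroupOf K := by
      rw [mem_subgroupOf]
      have e : ((z'⁻¹ * k : K) : G ⧸ C) = r := by
        rw [Subgroup.coe_mul, Subgroup.coe_inv, ← hzr]
        exact inv_mul_cancel_left _ _
      rw [e]
      exact hr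
    have h3 := mul_mem hz' (hXRK h2)
    rwa [mul_inv_cancel_left] at h3
  have h1 := hmax (X.map K.subtype ⊔ R)
    (by
      rw [zpowers_le]
      exact (le_sup_left : X.map K.subtype ≤ X.map K.subtype ⊔ R) ⟨_, haX, rfl⟩)
    le_sup_right
    (sup_le ((Subgroup.map_subtype_le X).trans hKL) (hRL.trans hL₀L)) hne'
  have h2 : X.map K.subtype ≤ MulAut.conj y • M.map f := by
    refine (le_sup_left.trans h1).trans ?_
    rw [hL₀]
    exact inf_le_right
  apply hodd
  have h3 : Nat.card (X.map K.subtype) = Nat.card X :=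
    (Nat.card_congr (X.equivMapOfInjective K.subtype K.subtype_injective).toEquiv).symm
  have h4 : Nat.card ↥(MulAut.conj y • M.map f) = Nat.card (M.map f) :=
    (Nat.card_congr ((M.map f).equivMapOfInjective (MulAut.conj y).toMonoidHom
      (MulAut.conj y).injective).toEquiv).symm
  rw [← h4]
  rw [← h3] at hX2
  exact hX2.trans (Subgroup.card_dvd_of_le h2)

/-- **If some nonidentity `p`-element of `G` is inverted, `p` odd, then one of `N_G(Z(J(T)))` is
inverted in `N_G(Z(J(T)))`.** -/
theorem main [hp : Fact p.Prime] (hp2 : p ≠ 2) (G : Type u) [Group G] [Finite G] : Good p G := by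
  obtain ⟨n, hn⟩ : ∃ n, n = Nat.card G := ⟨_, rfl⟩
  induction n using Nat.strong_induction_on generalizing G with
  | _ n ih =>
    intro T hinv
    by_contra hcon
    have c : Ctx p G T :=
      ⟨fun H _ _ hlt => ih (Nat.card H) (by rw [hn]; exact hlt) H rfl, hinv, hcon⟩
    exact c.false hp2

end Cfsg.Agent.H36.RealLocal
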