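import Cfsg.Agent.H36.RealLocal
import Cfsg.Agent.S0656

/-!
# Normal Sylow `2`-subgroups and inverted elements of odd prime power order
-/

set_option autoImplicit false

namespace Cfsg.Agent.H36.RealTwo

open Subgroup Cfsg Cfsg.Agent.H36.HasInv

variable {G : Type*} [Group G] [Finite G]

theorem odd_of_ne_two {q : ℕ} [hq : Fact q.Prime] (hq2 : q ≠ 2) {x : G}
    (hx : ∃ k : ℕ, x ^ q ^ k = 1) (h2 : ∃ k : ℕ, x ^ 2 ^ k = 1) : x = 1 := by
  obtain ⟨k, hk⟩ := hx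
  obtain ⟨m, hm⟩ := h2
  have h5 : (q ^ k).Coprime (2 ^ m) := by
    apply Nat.Coprime.pow
    rw [Nat.coprime_primes hq.out Nat.prime_two]
    exact hq2
  have h6 : orderOf x ∣ Nat.gcd (q ^ k) (2 ^ m) :=
    Nat.dvd_gcd (orderOf_dvd_of_pow_eq_one hk) (orderOf_dvd_of_pow_eq_one hm)
  rw [h5] at h6
  exact orderOf_eq_one_iff.1 (Nat.dvd_one.1 h6)

/-- A Sylow `2`-subgroup that is normal is the whole of `O_2(G)`. -/
theorem sylow_le_pCore (h : ∀ P : Sylow 2 G, (P : Subgroup G).Normal) (P : Sylow 2 G) :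
    (P : Subgroup G) ≤ pCore 2 G := Lib.Cores.le_pCore (h P) P.isPGroup'

theorem mem_pCore_of_pow (h : ∀ P : Sylow 2 G, (P : Subgroup G).Normal) {g : G}
    (hg : ∃ k : ℕ, g ^ 2 ^ k = 1) : g ∈ pCore 2 G := by
  have hp : IsPGroup 2 (zpowers g) := by
    obtain ⟨k, hk⟩ := hg
    rintro ⟨y, hy⟩
    obtain ⟨m, rfl⟩ := mem_zpowers_iff.1 hy
    refine ⟨k, Subtype.ext ?_⟩
    change (g ^ m) ^ 2 ^ k = 1
    rw [← zpow_natCast, ← zpow_mul, mul_comm, zpow_mul, zpow_natCast, hk, one_zpow]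
  have hfact : Fact (Nat.Prime 2) := ⟨Nat.prime_two⟩
  obtain ⟨P, hP⟩ := hp.exists_le_sylow
  exact sylow_le_pCore h P (hP (mem_zpowers g))

theorem not_hasInv_of_normal (h : ∀ P : Sylow 2 G, (P : Subgroup G).Normal) {q : ℕ}
    [hq : Fact q.Prime] (hq2 : q ≠ 2) : ¬ HasInv q G := by
  rintro ⟨x, g, hx, hxp, hinv⟩
  obtain ⟨e, r, hr, her⟩ := Nat.exists_eq_two_pow_mul_odd (orderOf_pos g).ne'
  have hg2 : ∃ k : ℕ, (g ^ r) ^ 2 ^ k = 1 := ⟨e, by
    rw [← pow_mul, mul_comm, ← her, pow_orderOf_eq_one]⟩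
  have h1 := pow_odd_inv hinv r hr
  have hR := mem_pCore_of_pow h hg2
  have hn : (pCore 2 G).Normal := Lib.Cores.pCore_normal 2
  set t := g ^ r with ht
  have h2 : x * t * x⁻¹ * t⁻¹ ∈ pCore 2 G := mul_mem (hn.conj_mem _ hR x) (inv_mem hR)
  have h3 : x * t * x⁻¹ * t⁻¹ = x ^ 2 := by
    have e : x * t * x⁻¹ * t⁻¹ = x * (t * x * t⁻¹)⁻¹ := by group
    rw [e, h1, inv_inv, pow_two]
  rw [h3] at h2
  have hfact : Fact (Nat.Prime 2) := ⟨Nat.prime_two⟩
  obtain ⟨k, hk⟩ := Lib.Cores.pCore_isPGroup (G := G) 2 ⟨_, h2⟩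
  have hk' : (x ^ 2) ^ 2 ^ k = 1 := congrArg Subtype.val hk
  apply hx
  apply odd_of_ne_two hq2 hxp
  refine ⟨1 + k, ?_⟩
  rw [pow_add, pow_mul, pow_one]
  exact hk'

theorem normal_sub (h : ∀ P : Sylow 2 G, (P : Subgroup G).Normal) (N : Subgroup G)
    (P : Sylow 2 N) : (P : Subgroup N).Normal := by
  have hfact : Fact (Nat.Prime 2) := ⟨Nat.prime_two⟩
  have hn : (pCore 2 G).Normal := Lib.Cores.pCore_normal 2
  have h1 : (P : Subgroup N) ≤ (pCore 2 G).subgroupOf N := by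
    intro y hy
    rw [mem_subgroupOf]
    apply mem_pCore_of_pow h
    obtain ⟨k, hk⟩ := P.isPGroup' ⟨y, hy⟩
    refine ⟨k, ?_⟩
    have := congrArg (fun z : (P : Subgroup N) => ((z : N) : G)) hk
    exact this
  have h2 : IsPGroup 2 ((pCore 2 G).subgroupOf N) :=
    (Lib.Cores.pCore_isPGroup 2).comap_of_injective N.subtype N.subtype_injective
  rw [← P.is_maximal' h2 h1]
  infer_instance

theorem normal_of_not_hasInv (h : ∀ (q : ℕ) [Fact q.Prime], q ≠ 2 → ¬ HasInv q G)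
    (P : Sylow 2 G) : (P : Subgroup G).Normal := by
  classical
  have hfact : Fact (Nat.Prime 2) := ⟨Nat.prime_two⟩
  have hn : (pCore 2 G).Normal := Lib.Cores.pCore_normal 2
  by_cases hle : (P : Subgroup G) ≤ pCore 2 G
  · rw [le_antisymm hle (Lib.Cores.pCore_le_sylow P)]
    exact hn
  exfalso
  let f : G →* G ⧸ pCore 2 G := QuotientGroup.mk' (pCore 2 G)
  have hf : Function.Surjective f := QuotientGroup.mk'_surjective _
  have hker : f.ker = pCore 2 G := QuotientGroup.ker_mk' _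
  have hPp : IsPGroup 2 ((P : Subgroup G).map f) := P.isPGroup'.map f
  have hPne : (P : Subgroup G).map f ≠ ⊥ := by
    rw [Ne, Subgroup.map_eq_bot_iff, hker]
    exact hle
  obtain ⟨m, hm⟩ := IsPGroup.iff_card.1 hPp
  have hm0 : m ≠ 0 := by
    rintro rfl
    rw [pow_zero, Subgroup.card_eq_one] at hm
    exact hPne hm
  obtain ⟨t, ht⟩ := exists_prime_orderOf_dvd_card' (G := (P : Subgroup G).map f) 2 (by
    rw [hm]; exact dvd_pow_self 2 hm0)
  have ht2 : orderOf (t : G ⧸ pCore 2 G) = 2 := by rw [Subgroup.orderOf_coe, ht]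
  have ht1 : (t : G ⧸ pCore 2 G) ≠ 1 := by
    intro h; rw [h, orderOf_one] at ht2; omega
  obtain ⟨g, hg⟩ := S0656.exists_conj_not_pGroup (p := 2)
    (Lib.Cores.pCore_quotient_pCore (G := G) 2) (t : G ⧸ pCore 2 G) ht1 ⟨1, by rw [ht2, pow_one]⟩
  obtain ⟨τ, hτ⟩ : ∃ τ : G ⧸ pCore 2 G, τ = t := ⟨_, rfl⟩
  rw [← hτ] at hg ht2 ht1
  set s := g * τ * g⁻¹ with hs
  have hss : s * s = 1 := by
    have : τ * τ = 1 := by
      have h := pow_orderOf_eq_one τ
      rwa [ht2, pow_two] at h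
    rw [hs]
    calc g * τ * g⁻¹ * (g * τ * g⁻¹) = g * (τ * τ) * g⁻¹ := by group
      _ = 1 := by rw [this]; group
  have htt : τ * τ = 1 := by
    have h := pow_orderOf_eq_one τ
    rwa [ht2, pow_two] at h
  have hti : τ⁻¹ = τ := inv_eq_of_mul_eq_one_right htt
  have hsi : s⁻¹ = s := inv_eq_of_mul_eq_one_right hss
  have hconj : τ * (τ * s) * τ⁻¹ = (τ * s)⁻¹ := by
    rw [mul_inv_rev, hti, hsi, ← mul_assoc, htt, one_mul]
  -- `τ s` is not a `2`-element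
  have hns : ¬ ∃ k : ℕ, (τ * s) ^ 2 ^ k = 1 := by
    rintro ⟨k, hk⟩
    apply hg
    have hA : IsPGroup 2 (zpowers (τ * s)) := by
      rintro ⟨y, hy⟩
      obtain ⟨j, rfl⟩ := mem_zpowers_iff.1 hy
      refine ⟨k, Subtype.ext ?_⟩
      change ((τ * s) ^ j) ^ 2 ^ k = 1
      rw [← zpow_natCast, ← zpow_mul, mul_comm, zpow_mul, zpow_natCast, hk, one_zpow]
    have hB : IsPGroup 2 (zpowers τ) := by
      apply IsPGroup.of_card (n := 1)
      rw [Nat.card_zpowers, ht2, pow_one]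
    have hBN : zpowers τ ≤ normalizer (zpowers (τ * s) : Set (G ⧸ pCore 2 G)) := by
      rw [zpowers_le, mem_normalizer_iff_map_conj_eq, MonoidHom.map_zpowers]
      change zpowers (τ * (τ * s) * τ⁻¹) = _
      rw [hconj, zpowers_inv]
    have hU : IsPGroup 2 (zpowers τ ⊔ zpowers (τ * s) : Subgroup _) :=
      hB.to_sup_of_normal_right' hA hBN
    refine hU.to_le ?_
    rw [closure_le]
    rintro z (rfl | rfl)
    · exact (le_sup_left : zpowers z ≤ _) (mem_zpowers z)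
    · have h1 : τ ∈ zpowers τ ⊔ zpowers (τ * s) :=
        (le_sup_left : zpowers τ ≤ _) (mem_zpowers τ)
      have h2 : τ * s ∈ zpowers τ ⊔ zpowers (τ * s) :=
        (le_sup_right : zpowers (τ * s) ≤ _) (mem_zpowers _)
      have h3 := mul_mem h1 h2
      have e : τ * (τ * s) = s := by rw [← mul_assoc, htt, one_mul]
      rw [e] at h3
      exact h3
  -- an odd prime divisor of the order
  obtain ⟨q, hq, hqd, hq2⟩ : ∃ q : ℕ, q.Prime ∧ q ∣ orderOf (τ * s) ∧ q ≠ 2 := by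
    by_contra hcon
    push Not at hcon
    apply hns
    refine ⟨(orderOf (τ * s)).primeFactorsList.length, ?_⟩
    have h1 : orderOf (τ * s) = 2 ^ (orderOf (τ * s)).primeFactorsList.length :=
      Nat.eq_prime_pow_of_unique_prime_dvd (orderOf_pos _).ne' (fun {d} hd hdd => hcon d hd hdd)
    rw [← h1, pow_orderOf_eq_one]
  have hqf : Fact q.Prime := ⟨hq⟩
  obtain ⟨c, hc⟩ := hqd
  have hc0 : c ≠ 0 := by
    rintro rfl
    rw [mul_zero] at hc
    exact (orderOf_pos (τ * s)).ne' hc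
  apply h q hq2
  refine HasInv.of_surjective hq2 f hf ⟨(τ * s) ^ c, τ, ?_, ⟨1, ?_⟩, ?_⟩
  · intro h1
    have h2 := orderOf_dvd_of_pow_eq_one h1
    rw [hc] at h2
    have h3 := Nat.le_of_dvd (Nat.pos_of_ne_zero hc0) h2
    have h4 := hq.two_le
    have h5 : 2 * c ≤ q * c := Nat.mul_le_mul_right c h4
    omega
  · rw [pow_one, ← pow_mul, mul_comm, ← hc, pow_orderOf_eq_one]
  · rw [← conj_pow, hconj, inv_pow]

end Cfsg.Agent.H36.RealTwo
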