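import Cfsg.Agent.PLocal.QuadraticDickson

/-!
# Two quadratic elements: a proper subgroup of even order containing one of them

`K = ⟨a, b⟩` acts on a finite `p`-group `P` (`p` odd), `a` and `b` quadratically, and not as a `p`-group.
Then `K` maps onto a subgroup of `SL₂(E)` generated by `[1 λ; 0 1]` and `[1 0; 1 1]` (`exists_sl_map`), hence
has a proper subgroup of even order containing `a` and every normal `p`-subgroup (`exists_even_proper`).
-/

set_option autoImplicit false

namespace Cfsg.Agent.H36.SLPair

open Matrix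
open Cfsg.Agent.PLocal.QuadraticPair
open Cfsg.Agent.PLocal.QuadraticNatural
open Cfsg.Agent.PLocal.QuadraticSection
open scoped commutatorElement

universe u v

/-- `K` maps to `SL₂(E)` with `a ↦ [1 λ; 0 1]`, `b ↦ [1 0; 1 1]`, `λ ≠ 0`, `E` a finite field of
characteristic `p`. -/
def HasSLMap (p : ℕ) {K : Type v} [Group K] (a b : K) : Prop :=
  ∃ (E : Type u) (_ : Field E) (_ : Fintype E) (_ : CharP E p)
    (φ : K →* SpecialLinearGroup (Fin 2) E) (lam : E), lam ≠ 0 ∧ φ a = upp lam ∧ φ b = low 1

theorem irreducible_case_comm {p : ℕ} [Fact p.Prime]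
    {K : Type v} [Group K] {P : Type u} [CommGroup P] [Finite P] [Module (ZMod p) (Additive P)]
    (α : K →* MulAut P) (a b : K) (hab : Subgroup.closure ({a, b} : Set K) = ⊤)
    (ha : ∀ x, α a (x⁻¹ * α a x) = x⁻¹ * α a x) (hb : ∀ x, α b (x⁻¹ * α b x) = x⁻¹ * α b x)
    (hnt : ∃ k x, α k x ≠ x)
    (hirr : ∀ N : Subgroup P, N.Normal → (∀ k, ∀ x ∈ N, α k x ∈ N) → N = ⊥ ∨ N = ⊤) :
    HasSLMap.{u, v} p a b := by
  classical
  let ρ : K →* Module.End (ZMod p) (Additive P) :=
    { toFun := fun k => (MonoidHom.toAdditive (α k).toMonoidHom).toZModLinearMap p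
      map_one' := by
        apply LinearMap.ext
        intro x
        rw [map_one, Module.End.one_apply]
        rfl
      map_mul' := by
        intro k l
        apply LinearMap.ext
        intro x
        rw [map_mul, Module.End.mul_apply]
        rfl }
  have hρ : ∀ k x, ρ k x = Additive.ofMul (α k (Additive.toMul x)) := fun k x => rfl
  have hsub : ∀ (k : K) (x : Additive P), ρ k x - x =
      Additive.ofMul ((Additive.toMul x)⁻¹ * α k (Additive.toMul x)) := by
    intro k x
    rw [hρ, sub_eq_add_neg, add_comm]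
    rfl
  obtain ⟨E, iF, iFt, iC, e, φ, lam, hlam, hφ, hφa, hφb⟩ :=
    exists_sl_two_structure ρ a b hab
      (by
        intro x
        rw [hsub, hρ]
        exact congrArg Additive.ofMul (ha _))
      (by
        intro x
        rw [hsub, hρ]
        exact congrArg Additive.ofMul (hb _))
      (by
        intro W hW
        let N : Subgroup P := AddSubgroup.toSubgroup' W.toAddSubgroup
        have hNW : ∀ x : P, x ∈ N ↔ Additive.ofMul x ∈ W := fun x => Iff.rfl
        have hNn : N.Normal := ⟨fun x hx g => by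
          rw [mul_comm g x, mul_inv_cancel_right]; exact hx⟩
        rcases hirr N hNn (by
          intro k x hx
          rw [hNW] at hx ⊢
          exact hW k _ hx) with h | h
        · left
          rw [eq_bot_iff]
          intro x hx
          have h1 : Additive.toMul x ∈ N := hx
          rw [h, Subgroup.mem_bot] at h1
          rw [Submodule.mem_bot]
          exact Additive.toMul.injective h1
        · right
          rw [eq_top_iff]
          intro x _
          have h1 : Additive.toMul x ∈ N := by rw [h]; trivial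
          exact h1)
      (by
        obtain ⟨k, x, hx⟩ := hnt
        exact ⟨k, Additive.ofMul x, fun h => hx (Additive.ofMul.injective h)⟩)
  exact ⟨E, iF, iFt, iC, φ, lam, hlam, Subtype.ext hφa, Subtype.ext hφb⟩

theorem irreducible_case_aux {p : ℕ} [Fact p.Prime]
    {K : Type v} [Group K] {P : Type u} [inst : Group P] [Finite P]
    (hmc : ∀ x y : P, x * y = y * x) (hexp : ∀ x : P, x ^ p = 1)
    (α : K →* MulAut P) (a b : K) (hab : Subgroup.closure ({a, b} : Set K) = ⊤)
    (ha : ∀ x, α a (x⁻¹ * α a x) = x⁻¹ * α a x) (hb : ∀ x, α b (x⁻¹ * α b x) = x⁻¹ * α b x)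
    (hnt : ∃ k x, α k x ≠ x)
    (hirr : ∀ N : Subgroup P, N.Normal → (∀ k, ∀ x ∈ N, α k x ∈ N) → N = ⊥ ∨ N = ⊤) :
    HasSLMap.{u, v} p a b := by
  let instCG : CommGroup P := { inst with mul_comm := hmc }
  let instMod : Module (ZMod p) (Additive P) := AddCommGroup.zmodModule (by
    intro x
    have h1 := hexp (Additive.toMul x)
    apply Additive.toMul.injective
    rw [toMul_nsmul, h1, toMul_zero])
  exact irreducible_case_comm (P := P) α a b hab ha hb hnt hirr

theorem irreducible_case {p : ℕ} [Fact p.Prime]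
    {K : Type v} [Group K] {P : Type u} [Group P] [Finite P] (hP : IsPGroup p P)
    (α : K →* MulAut P) (a b : K) (hab : Subgroup.closure ({a, b} : Set K) = ⊤)
    (ha : ∀ x, α a (x⁻¹ * α a x) = x⁻¹ * α a x) (hb : ∀ x, α b (x⁻¹ * α b x) = x⁻¹ * α b x)
    (hnt : ∃ k x, α k x ≠ x)
    (hirr : ∀ N : Subgroup P, N.Normal → (∀ k, ∀ x ∈ N, α k x ∈ N) → N = ⊥ ∨ N = ⊤) :
    HasSLMap.{u, v} p a b := by
  classical
  have hPnt : Nontrivial P := by
    obtain ⟨k, x, hx⟩ := hnt
    exact ⟨⟨_, _, hx⟩⟩
  have hnil : Group.IsNilpotent P := hP.isNilpotent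
  have hcomm : commutator P = ⊥ := by
    rcases hirr (commutator P) inferInstance (by
      intro k x hx
      have h1 : (commutator P).map (α k).toMonoidHom = commutator P :=
        Subgroup.characteristic_iff_map_eq.1 inferInstance (α k)
      rw [← h1]
      exact Subgroup.mem_map_of_mem _ hx) with h | h
    · exact h
    · exact absurd h (Group.IsSolvable.commutator_lt_top_of_nontrivial P).ne
  have hmc : ∀ x y : P, x * y = y * x := by
    intro x y
    have h1 : ⁅x, y⁆ ∈ commutator P :=
      Subgroup.commutator_mem_commutator (Subgroup.mem_top x) (Subgroup.mem_top y)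
    rw [hcomm, Subgroup.mem_bot, commutatorElement_eq_one_iff_mul_comm] at h1
    exact h1
  have hexp : ∀ x : P, x ^ p = 1 := by
    let N : Subgroup P :=
      { carrier := {x | x ^ p = 1}
        mul_mem' := by
          intro x y hx hy
          change (x * y) ^ p = 1
          rw [(show Commute x y from hmc x y).mul_pow, show x ^ p = 1 from hx,
            show y ^ p = 1 from hy, one_mul]
        one_mem' := by
          change (1 : P) ^ p = 1
          rw [one_pow]
        inv_mem' := by
          intro x hx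
          change x⁻¹ ^ p = 1
          rw [inv_pow, show x ^ p = 1 from hx, inv_one] }
    have hNn : N.Normal := ⟨fun x hx g => by
      rw [hmc g x, mul_inv_cancel_right]; exact hx⟩
    have hN := hirr N hNn (by
      intro k x hx
      change (α k x) ^ p = 1
      rw [← map_pow, show x ^ p = 1 from hx, map_one])
    rcases hN with h | h
    · exfalso
      obtain ⟨n, hn⟩ := IsPGroup.iff_card.1 hP
      have hn0 : n ≠ 0 := by
        rintro rfl
        rw [pow_zero] at hn
        have := Finite.one_lt_card_iff_nontrivial.2 hPnt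
        omega
      obtain ⟨x, hx⟩ := exists_prime_orderOf_dvd_card' (G := P) p (by
        rw [hn]; exact dvd_pow_self p hn0)
      have hxN : x ∈ N := by
        change x ^ p = 1
        rw [← hx, pow_orderOf_eq_one]
      rw [h, Subgroup.mem_bot] at hxN
      rw [hxN, orderOf_one] at hx
      exact (Fact.out : p.Prime).one_lt.ne hx
    · intro x
      have : x ∈ N := by rw [h]; trivial
      exact this
  exact irreducible_case_aux hmc hexp α a b hab ha hb hnt hirr

/-- Two quadratic generators `a, b` of a group `K` acting on a finite `p`-group, not as a `p`-group. -/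
theorem exists_sl_map {p : ℕ} [Fact p.Prime]
    {K : Type v} [Group K] {P : Type u} [Group P] [Finite P] (hP : IsPGroup p P)
    (α : K →* MulAut P) (a b : K) (hab : Subgroup.closure ({a, b} : Set K) = ⊤)
    (ha : ∀ x, α a (x⁻¹ * α a x) = x⁻¹ * α a x) (hb : ∀ x, α b (x⁻¹ * α b x) = x⁻¹ * α b x)
    (hnp : ¬ ∀ k, ∃ n, (α k) ^ p ^ n = 1) :
    HasSLMap.{u, v} p a b := by
  classical
  obtain ⟨n, hn⟩ : ∃ n, n = Nat.card P := ⟨_, rfl⟩
  induction n using Nat.strong_induction_on generalizing P with
  | _ n ih =>
    by_cases hirr : ∀ N : Subgroup P, N.Normal → (∀ k, ∀ x ∈ N, α k x ∈ N) → N = ⊥ ∨ N = ⊤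
    · refine irreducible_case hP α a b hab ha hb ?_ hirr
      by_contra hcon
      push Not at hcon
      apply hnp
      intro k
      refine ⟨0, ?_⟩
      ext x
      rw [pow_zero, pow_one, MulAut.one_apply, hcon]
    · push Not at hirr
      obtain ⟨N, hNn, hN, hN1, hN2⟩ := hirr
      have hmul : Nat.card P = Nat.card (P ⧸ N) * Nat.card N :=
        Subgroup.card_eq_card_quotient_mul_card_subgroup N
      have hNpos : 0 < Nat.card N := Nat.card_pos
      have hQpos : 0 < Nat.card (P ⧸ N) := Nat.card_pos
      have hNone : 1 < Nat.card N := by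
        rw [Subgroup.one_lt_card_iff_ne_bot]
        exact hN1
      have hNlt : Nat.card N < n := by
        rw [hn]
        refine lt_of_le_of_ne (Subgroup.card_le_card_group N) ?_
        intro h
        exact hN2 (Subgroup.eq_top_of_card_eq N h)
      have hQlt : Nat.card (P ⧸ N) < n := by
        rw [hn, hmul]
        exact lt_mul_of_one_lt_right hQpos hNone
      by_cases c1 : ∀ k, ∃ n, (restrictAction α N hN k) ^ p ^ n = 1
      · by_cases c2 : ∀ k, ∃ n, (quotientAction α N hN k) ^ p ^ n = 1
        · exact absurd (pow_eq_one_of_restrict_of_quotient hP α N hN c1 c2) hnp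
        · refine ih _ hQlt (hP.to_quotient N) (quotientAction α N hN) ?_ ?_ c2 rfl
          · intro x
            obtain ⟨x, rfl⟩ := QuotientGroup.mk_surjective x
            rw [quotientAction_mk, ← QuotientGroup.mk_inv, ← QuotientGroup.mk_mul,
              quotientAction_mk, ha]
          · intro x
            obtain ⟨x, rfl⟩ := QuotientGroup.mk_surjective x
            rw [quotientAction_mk, ← QuotientGroup.mk_inv, ← QuotientGroup.mk_mul,
              quotientAction_mk, hb]
      · refine ih _ hNlt (hP.to_subgroup N) (restrictAction α N hN) ?_ ?_ c1 rfl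
        · intro x
          apply Subtype.ext
          exact ha x
        · intro x
          apply Subtype.ext
          exact hb x

/-- The upper triangular subgroup of `SL₂`. -/
def upper (E : Type*) [CommRing E] : Subgroup (SpecialLinearGroup (Fin 2) E) where
  carrier := {g | g.1 1 0 = 0}
  one_mem' := by
    change (1 : SpecialLinearGroup (Fin 2) E).1 1 0 = 0
    simp
  mul_mem' := by
    intro g h hg hh
    change (g * h).1 1 0 = 0
    change g.1 1 0 = 0 at hg
    change h.1 1 0 = 0 at hh
    change (g.1 * h.1) 1 0 = 0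
    rw [Matrix.mul_apply, Fin.sum_univ_two, hg, hh]
    simp
  inv_mem' := by
    intro g hg
    change g.1 1 0 = 0 at hg
    have h1 : (g⁻¹).1 = Matrix.adjugate g.1 := rfl
    change (g⁻¹).1 1 0 = 0
    rw [h1, Matrix.adjugate_fin_two]
    simp [hg]

theorem mem_upper {E : Type*} [CommRing E] {g : SpecialLinearGroup (Fin 2) E} :
    g ∈ upper E ↔ g.1 1 0 = 0 := Iff.rfl

/-- An involution of `SL₂(E)`, characteristic not two, is `-1`. -/
theorem eq_neg_one {E : Type*} [Field E] (h2 : (2 : E) ≠ 0) {g : SpecialLinearGroup (Fin 2) E}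
    (hg : g ^ 2 = 1) (hg1 : g ≠ 1) : g = -1 := by
  have hdet : g.1 0 0 * g.1 1 1 - g.1 0 1 * g.1 1 0 = 1 := by
    rw [← Matrix.det_fin_two]; exact g.2
  have hm : g.1 * g.1 = 1 := by
    have := congrArg Subtype.val hg
    rw [pow_two] at this
    exact this
  have e00 : g.1 0 0 * g.1 0 0 + g.1 0 1 * g.1 1 0 = 1 := by
    have := congrFun (congrFun hm 0) 0
    rw [Matrix.mul_apply, Fin.sum_univ_two] at this
    simpa using this
  have e01 : g.1 0 0 * g.1 0 1 + g.1 0 1 * g.1 1 1 = 0 := by
    have := congrFun (congrFun hm 0) 1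
    rw [Matrix.mul_apply, Fin.sum_univ_two] at this
    simpa using this
  have e10 : g.1 1 0 * g.1 0 0 + g.1 1 1 * g.1 1 0 = 0 := by
    have := congrFun (congrFun hm 1) 0
    rw [Matrix.mul_apply, Fin.sum_univ_two] at this
    simpa using this
  have e11 : g.1 1 0 * g.1 0 1 + g.1 1 1 * g.1 1 1 = 1 := by
    have := congrFun (congrFun hm 1) 1
    rw [Matrix.mul_apply, Fin.sum_univ_two] at this
    simpa using this
  have htr : g.1 0 0 + g.1 1 1 ≠ 0 := by
    intro h0
    have h1 : g.1 1 1 = - g.1 0 0 := by linear_combination h0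
    rw [h1] at hdet
    apply h2
    linear_combination -e00 - hdet
  have h01 : g.1 0 1 = 0 := by
    have : g.1 0 1 * (g.1 0 0 + g.1 1 1) = 0 := by linear_combination e01
    rcases mul_eq_zero.1 this with h | h
    · exact h
    · exact absurd h htr
  have h10 : g.1 1 0 = 0 := by
    have : g.1 1 0 * (g.1 0 0 + g.1 1 1) = 0 := by linear_combination e10
    rcases mul_eq_zero.1 this with h | h
    · exact h
    · exact absurd h htr
  rw [h01, h10] at hdet e00
  have hsq : (g.1 0 0 - 1) * (g.1 0 0 + 1) = 0 := by linear_combination e00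
  have hne : g.1 0 0 * (g.1 1 1 - g.1 0 0) = 0 := by linear_combination hdet - e00
  have h00 : g.1 0 0 ≠ 0 := by
    intro h; rw [h] at e00; simp at e00
  have h11 : g.1 1 1 = g.1 0 0 := by
    rcases mul_eq_zero.1 hne with h | h
    · exact absurd h h00
    · linear_combination h
  rcases mul_eq_zero.1 hsq with h | h
  · exfalso
    apply hg1
    apply Subtype.ext
    have h0 : g.1 0 0 = 1 := by linear_combination h
    ext i j
    fin_cases i <;> fin_cases j <;> simp [h01, h10, h11, h0]
  · apply Subtype.ext
    have h0 : g.1 0 0 = -1 := by linear_combination h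
    ext i j
    fin_cases i <;> fin_cases j <;> simp [h01, h10, h11, h0]

/-- `K = ⟨a, b⟩` acting quadratically and not as a `p`-group has a proper subgroup of even order
containing `a` and all normal `p`-subgroups. -/
theorem exists_even_proper {p : ℕ} [Fact p.Prime] (hp : p ≠ 2)
    {K : Type v} [Group K] [Finite K] {a b : K} (hab : Subgroup.closure ({a, b} : Set K) = ⊤)
    (h : HasSLMap.{u, v} p a b) :
    ∃ X : Subgroup K, a ∈ X ∧ X ≠ ⊤ ∧ 2 ∣ Nat.card X ∧
      ∀ R : Subgroup K, R.Normal → IsPGroup p R → R ≤ X := by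
  classical
  obtain ⟨E, iF, iFt, iC, φ, lam, hlam, hφa, hφb⟩ := h
  have h2 : (2 : E) ≠ 0 := by
    intro h
    have h3 : ((2 : ℕ) : E) = 0 := by exact_mod_cast h
    rw [CharP.cast_eq_zero_iff E p] at h3
    exact hp ((Nat.prime_dvd_prime_iff_eq Fact.out Nat.prime_two).1 h3)
  refine ⟨(upper E).comap φ, ?_, ?_, ?_, ?_⟩
  · rw [Subgroup.mem_comap, hφa, mem_upper, coe_upp]
    rfl
  · intro htop
    have h1 : b ∈ (upper E).comap φ := by rw [htop]; trivial
    rw [Subgroup.mem_comap, hφb, mem_upper, coe_low] at h1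
    exact one_ne_zero h1
  · have hrange : φ.range = Subgroup.closure {upp lam, low 1} := by
      rw [MonoidHom.range_eq_map, ← hab, MonoidHom.map_closure, Set.image_pair, hφa, hφb]
    obtain ⟨D, hDle, ⟨δ⟩⟩ := Cfsg.Agent.S0274.result p hp φ.range
      (one_lt_card_sylow φ.range lam hlam hrange)
    -- an involution of `D`
    have hneg : (-1 : SpecialLinearGroup (Fin 2) (ZMod p)) ≠ 1 := by
      intro h
      have h1 := congrArg (fun g : SpecialLinearGroup (Fin 2) (ZMod p) => g.1 0 0) h
      simp at h1
      have h4 : ((2 : ℕ) : ZMod p) = 0 := by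
        push_cast
        linear_combination -h1
      rw [CharP.cast_eq_zero_iff (ZMod p) p] at h4
      exact hp ((Nat.prime_dvd_prime_iff_eq Fact.out Nat.prime_two).1 h4)
    have hneg2 : (-1 : SpecialLinearGroup (Fin 2) (ZMod p)) ^ 2 = 1 := by simp
    let z : SpecialLinearGroup (Fin 2) E := (δ.symm (-1) : D)
    have hz1 : z ≠ 1 := by
      intro h
      apply hneg
      have : δ.symm (-1) = 1 := Subtype.ext h
      rw [← map_one δ.symm] at this
      exact δ.symm.injective this
    have hz2 : z ^ 2 = 1 := by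
      have h1 : (δ.symm (-1)) ^ 2 = 1 := by rw [← map_pow, hneg2, map_one]
      exact congrArg Subtype.val h1
    have hz : z = -1 := eq_neg_one h2 hz2 hz1
    obtain ⟨k, hk⟩ : z ∈ φ.range := hDle (δ.symm (-1)).2
    have hkX : k ∈ (upper E).comap φ := by
      rw [Subgroup.mem_comap, hk, hz, mem_upper]
      simp
    have h3 : orderOf z = 2 := orderOf_eq_prime hz2 hz1
    have h4 : 2 ∣ orderOf k := by
      rw [← h3, ← hk]
      exact orderOf_map_dvd φ k
    exact h4.trans (Subgroup.orderOf_dvd_natCard _ hkX)
  · intro R hR hRp r hr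
    -- normal `p`-subgroups act trivially
    have ha : ∃ n : ℕ, (φ (r * a)) ^ p ^ n = 1 := by
      obtain ⟨n, hn⟩ := hRp ⟨r, hr⟩
      have hr' : r ^ p ^ n = 1 := congrArg Subtype.val hn
      have h1 : ∃ n : ℕ, (φ (r * a)) ^ p ^ n = 1 := by
        obtain ⟨m, hm⟩ := hRp.exists_card_eq
        have h3 : φ ((r * a) ^ p) ∈ R.map φ := by
          have h4 : φ (a ^ p) = 1 := by
            rw [map_pow, hφa, upp_pow, CharP.cast_eq_zero, zero_mul, upp_zero]
          have h5 : (r * a) ^ p * (a ^ p)⁻¹ ∈ R := by
            rw [← QuotientGroup.eq_one_iff]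
            have h6 : (QuotientGroup.mk (r * a) : K ⧸ R) = QuotientGroup.mk a := by
              rw [QuotientGroup.mk_mul, (QuotientGroup.eq_one_iff r).mpr hr, one_mul]
            rw [QuotientGroup.mk_mul, QuotientGroup.mk_inv, QuotientGroup.mk_pow, h6,
              QuotientGroup.mk_pow, mul_inv_cancel]
          have h6 := Subgroup.mem_map_of_mem φ h5
          rw [map_mul, map_inv, h4, inv_one, mul_one] at h6
          exact h6
        obtain ⟨s, hs, hs2⟩ := h3
        obtain ⟨j, hj⟩ := hRp ⟨s, hs⟩
        refine ⟨1 + j, ?_⟩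
        rw [pow_add, pow_mul, pow_one, ← map_pow, ← hs2, ← map_pow,
          show s ^ p ^ j = 1 from congrArg Subtype.val hj, map_one]
      exact h1
    have hr0 : ∃ n : ℕ, (φ r) ^ p ^ n = 1 := by
      obtain ⟨n, hn⟩ := hRp ⟨r, hr⟩
      refine ⟨n, ?_⟩
      rw [← map_pow, show r ^ p ^ n = 1 from congrArg Subtype.val hn, map_one]
    obtain ⟨n, hn⟩ := ha
    obtain ⟨m, hm⟩ := hr0
    have t1 := trace_eq_two _ n hn
    have t2 := trace_eq_two _ m hm
    rw [map_mul, hφa, Matrix.SpecialLinearGroup.coe_mul, coe_upp] at t1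
    rw [Matrix.mul_apply, Matrix.mul_apply, Fin.sum_univ_two, Fin.sum_univ_two] at t1
    simp at t1
    rw [Subgroup.mem_comap, mem_upper]
    have h7 : (φ r).1 1 0 * lam = 0 := by
      linear_combination t1 - t2
    rcases mul_eq_zero.1 h7 with h | h
    · exact h
    · exact absurd h hlam

end Cfsg.Agent.H36.SLPair
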